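import Mathlib
import Cfsg.Agent.H902.Zs_m3
import Cfsg.Agent.H341.ThreeList_m3
import Cfsg.Agent.H902.AltLie
import Cfsg.Agent.H365.Near
import Cfsg.Agent.Prune
set_option linter.all false

section
prune_inst 0x7ffffffeffffffffffff7e7ffff9fffe3bd7dfffffdffb43ffffebffdfff93ff3bedffaf1de4f8ffdef6e6b738b9f853fbffffffef6ffc7ffffdfff75ffbee7ff7ffbf8171d79f74cffc6ffffbf17fea7f3fffffffffffffffffffffffffffffffffffffffff

-- part: H992/TC/Small
section
set_option linter.all false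
open scoped Cfsg.Agent.FastGrp

/-!
# The groups over the fields with two and three elements
-/

set_option autoImplicit false

namespace Cfsg.Agent.H992.TC

open Cfsg Cfsg.Agent.H902 Cfsg.Agent.H902.Art Cfsg.Agent.OrdDiv

universe u

theorem small_aux (T : OrderTable.{u}) {S : Type u} [Group S] (hk : IsKnownSimple' S)
    (hna : ¬ ∀ a b : S, a * b = b * a) (l : List (ℕ × ℕ)) (M p B E : ℕ) (hv : valid l M = true)
    (hchk : ∀ g ∈ cands l M, ordN g = M ∨ ∀ a < E + 1, ordN g * p ^ a ∣ M → B < M / (ordN g * p ^ a))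
    (hE : ¬ p ^ (E + 1) ∣ M) (hM : 0 < M) {c a : ℕ} (hc : c ≤ B) (e : Nat.card S * c * p ^ a = M) :
    Nat.card S = M := by
  obtain ⟨g, hg, hr, hcard⟩ := exists_good T hk hna hv (show Nat.card S ∣ M by
    rw [← e, mul_assoc]; exact Dvd.intro _ rfl)
  rcases hchk g hg with h | h
  · rw [hcard, h]
  · exfalso
    have ha : a < E + 1 := by
      by_contra hcon
      exact hE ((pow_dvd_pow p (by omega)).trans (e ▸ Dvd.intro_left _ rfl))
    have h1 : (ordN g * p ^ a) * c = M := by rw [← hcard, ← e]; ring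
    have h2 := h a ha ⟨c, h1.symm⟩
    have h3 : 0 < ordN g * p ^ a := by
      rw [Nat.pos_iff_ne_zero]; intro h0; rw [h0, zero_mul] at h1; omega
    have h4 : M / (ordN g * p ^ a) = c := Nat.div_eq_of_eq_mul_right h3 h1.symm
    omega

/-- the check in the kernel -/
def chk (l : List (ℕ × ℕ)) (M p B E : ℕ) : Bool :=
  (cands l M).all fun g => Nat.beq (ordN g) M ||
    (List.range (E + 1)).all fun a => !(Nat.beq (M % (ordN g * p ^ a)) 0) || Nat.blt B (M / (ordN g * p ^ a))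

theorem chk_spec {l : List (ℕ × ℕ)} {M p B E : ℕ} (h : chk l M p B E = true) :
    ∀ g ∈ cands l M, ordN g = M ∨ ∀ a < E + 1, ordN g * p ^ a ∣ M → B < M / (ordN g * p ^ a) := by
  intro g hg
  have h1 := List.all_eq_true.1 h g hg
  rw [Bool.or_eq_true] at h1
  rcases h1 with h1 | h1
  · exact Or.inl (Nat.eq_of_beq_eq_true h1)
  · right
    intro a ha hd
    have h2 := List.all_eq_true.1 h1 a (List.mem_range.2 ha)
    rw [Bool.or_eq_true] at h2
    rcases h2 with h2 | h2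
    · exfalso
      rw [Nat.mod_eq_zero_of_dvd hd] at h2
      exact absurd h2 (by decide)
    · rwa [Nat.blt_eq] at h2

theorem small_F4_2 : valid [(2, 24), (3, 6), (5, 2), (7, 2), (13, 1), (17, 1)] (2 ^ 24 * num .F4 2) = true ∧
    chk [(2, 24), (3, 6), (5, 2), (7, 2), (13, 1), (17, 1)] (2 ^ 24 * num .F4 2) 2 200 24 = true := by
  decide +kernel

theorem small_F4_3 : valid [(2, 15), (3, 24), (5, 2), (7, 2), (13, 2), (41, 1), (73, 1)] (3 ^ 24 * num .F4 3) = true ∧
    chk [(2, 15), (3, 24), (5, 2), (7, 2), (13, 2), (41, 1), (73, 1)] (3 ^ 24 * num .F4 3) 3 400 24 = true := by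
  decide +kernel

theorem small_E6_2 : valid [(2, 36), (3, 6), (5, 2), (7, 3), (13, 1), (17, 1), (31, 1), (73, 1)]
      (2 ^ 36 * num .E6 2) = true ∧
    chk [(2, 36), (3, 6), (5, 2), (7, 3), (13, 1), (17, 1), (31, 1), (73, 1)] (2 ^ 36 * num .E6 2) 2 400 36 = true := by
  decide +kernel

theorem small_E6_3 : valid [(2, 17), (3, 36), (5, 2), (7, 2), (11, 2), (13, 3), (41, 1), (73, 1), (757, 1)]
      (3 ^ 36 * num .E6 3) = true ∧
    chk [(2, 17), (3, 36), (5, 2), (7, 2), (11, 2), (13, 3), (41, 1), (73, 1), (757, 1)]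
      (3 ^ 36 * num .E6 3) 3 400 36 = true := by
  decide +kernel

theorem small_TE6_2 : valid [(2, 36), (3, 9), (5, 2), (7, 2), (11, 1), (13, 1), (17, 1), (19, 1)]
      (2 ^ 36 * num .TE6 2 / 3) = true ∧
    chk [(2, 36), (3, 9), (5, 2), (7, 2), (11, 1), (13, 1), (17, 1), (19, 1)]
      (2 ^ 36 * num .TE6 2 / 3) 2 400 36 = true := by
  decide +kernel

theorem small_TE6_3 : valid [(2, 19), (3, 36), (5, 2), (7, 3), (13, 2), (19, 1), (37, 1), (41, 1), (61, 1), (73, 1)]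
      (3 ^ 36 * num .TE6 3) = true ∧
    chk [(2, 19), (3, 36), (5, 2), (7, 3), (13, 2), (19, 1), (37, 1), (41, 1), (61, 1), (73, 1)]
      (3 ^ 36 * num .TE6 3) 3 400 36 = true := by
  decide +kernel

/-- `c ≤ 3 log₂ M` -/
theorem c_small {N M c k : ℕ} (hc : 2 ^ c ≤ N ^ 3) (hN : N ≤ M) (hM : M ≤ 2 ^ k) : c ≤ 3 * k := by
  have h1 : 2 ^ c ≤ 2 ^ (3 * k) := by
    calc 2 ^ c ≤ N ^ 3 := hc
      _ ≤ (2 ^ k) ^ 3 := Nat.pow_le_pow_left (hN.trans hM) 3
      _ = _ := by rw [← pow_mul]; congr 1; ring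
  exact (Nat.pow_le_pow_iff_right (by norm_num : 1 < 2)).1 h1

/-- **The fields with two and three elements.** -/
theorem small_q (T : OrderTable.{u}) {S : Type u} [Group S] (hk : IsKnownSimple' S)
    (hna : ¬ ∀ a b : S, a * b = b * a) {Y : Sh} (hY : Y3 Y) {p f M : ℕ} (h : Art.Real Y p f M) (hq : p ^ f ≤ 3)
    {c a : ℕ} (hc : 2 ^ c ≤ Nat.card S ^ 3) (e : Nat.card S * c * p ^ a = M) : Nat.card S = M := by
  have hM := h.M_ne
  have hq2 := h.q_ge
  have hf1 : f = 1 := by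
    have h1 := h.hf
    have h2 := h.hp.two_le
    by_contra hcon
    have h3 : 2 ^ 2 ≤ p ^ f := (Nat.pow_le_pow_left h2 2).trans (Nat.pow_le_pow_right (by omega) (by omega))
    omega
  subst hf1
  have heq := h.eq
  rw [pow_one] at hq hq2 heq
  have hS0 : Nat.card S ≤ M := by
    apply Nat.le_of_dvd (by omega)
    rw [← e, mul_assoc]; exact Dvd.intro _ rfl
  have hp : p = 2 ∨ p = 3 := by omega
  rcases hY with rfl | rfl | rfl
  · have hM1 : M = p ^ 24 * num .F4 p := by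
      rw [← show 1 * M = M from one_mul M]; exact heq
    rcases hp with rfl | rfl
    · have hb := c_small hc hS0 (k := 52) (by rw [hM1]; decide +kernel)
      rw [hM1] at e ⊢
      exact small_aux T hk hna _ _ 2 200 24 small_F4_2.1 (chk_spec small_F4_2.2) (by decide +kernel)
        (by decide +kernel) (by omega) e
    · have hb := c_small hc hS0 (k := 83) (by rw [hM1]; decide +kernel)
      rw [hM1] at e ⊢
      exact small_aux T hk hna _ _ 3 400 24 small_F4_3.1 (chk_spec small_F4_3.2) (by decide +kernel)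
        (by decide +kernel) (by omega) e
  · rcases hp with rfl | rfl
    · have hM1 : M = 2 ^ 36 * num .E6 2 := by
        rw [show dd .E6 2 = 1 by decide, one_mul] at heq; exact heq
      have hb := c_small hc hS0 (k := 78) (by rw [hM1]; decide +kernel)
      rw [hM1] at e ⊢
      exact small_aux T hk hna _ _ 2 400 36 small_E6_2.1 (chk_spec small_E6_2.2) (by decide +kernel)
        (by decide +kernel) (by omega) e
    · have hM1 : M = 3 ^ 36 * num .E6 3 := by
        rw [show dd .E6 3 = 1 by decide, one_mul] at heq; exact heq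
      have hb := c_small hc hS0 (k := 124) (by rw [hM1]; decide +kernel)
      rw [hM1] at e ⊢
      exact small_aux T hk hna _ _ 3 400 36 small_E6_3.1 (chk_spec small_E6_3.2) (by decide +kernel)
        (by decide +kernel) (by omega) e
  · rcases hp with rfl | rfl
    · have hM1 : M = 2 ^ 36 * num .TE6 2 / 3 := by
        rw [show dd .TE6 2 = 3 by decide] at heq
        have h3 : 3 * M = 2 ^ 36 * num .TE6 2 := heq
        exact (Nat.div_eq_of_eq_mul_right (by norm_num : 0 < 3) h3.symm).symm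
      have hb := c_small hc hS0 (k := 78) (by rw [hM1]; decide +kernel)
      rw [hM1] at e ⊢
      exact small_aux T hk hna _ _ 2 400 36 small_TE6_2.1 (chk_spec small_TE6_2.2) (by decide +kernel)
        (by decide +kernel) (by omega) e
    · have hM1 : M = 3 ^ 36 * num .TE6 3 := by
        rw [show dd .TE6 3 = 1 by decide, one_mul] at heq; exact heq
      have hb := c_small hc hS0 (k := 124) (by rw [hM1]; decide +kernel)
      rw [hM1] at e ⊢
      exact small_aux T hk hna _ _ 3 400 36 small_TE6_3.1 (chk_spec small_TE6_3.2) (by decide +kernel)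
        (by decide +kernel) (by omega) e

end Cfsg.Agent.H992.TC
end

-- part: H962/IdSame
section
prune_inst 0x4000000000000000001004800000000000000000000000000000000000000000000000800000000200080000000001180c00000000000000000000000000000000000000000
set_option linter.all false
open scoped Cfsg.Agent.FastGrp

-- part: H962/IdArith
section
/-!
# Arithmetic of the special pairs (helper962)
-/

set_option autoImplicit false

namespace Cfsg.Agent.H962.IdArith

theorem sub_int {q k : ℕ} (hq : 1 ≤ q) : ((q ^ k - 1 : ℕ) : ℤ) = (q : ℤ) ^ k - 1 := by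
  rw [Nat.cast_sub (Nat.one_le_pow _ _ hq)]; push_cast; ring

theorem sub_int' {q : ℕ} (hq : 1 ≤ q) : ((q - 1 : ℕ) : ℤ) = (q : ℤ) - 1 := by
  rw [Nat.cast_sub hq]; push_cast; ring

section

variable {q c d : ℕ}

theorem powers {x : ℤ} (hx : 2 ≤ x) : 1 < x ^ 2 ∧ x ^ 2 < x ^ 3 ∧ x ^ 3 < x ^ 4 ∧ x ^ 4 < x ^ 6 ∧ x ^ 6 < x ^ 8 ∧ x ^ 8 < x ^ 12 := by
  have h1 : (1 : ℤ) < x := by linarith
  refine ⟨one_lt_pow₀ h1 (by norm_num), ?_, ?_, ?_, ?_, ?_⟩ <;> exact pow_lt_pow_right₀ h1 (by norm_num)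

/-- `F₄`, `D₄(q²)` -/
theorem F4_D4 (hq : 2 ≤ q) (hc : 1 ≤ c) (hd : d ≤ 4)
    (h : ((q ^ 8 - 1) * ((q ^ 4 - 1) * (q ^ 8 - 1) * (q ^ 12 - 1))) * c =
      d * ((q ^ 2 - 1) * (q ^ 6 - 1) * (q ^ 8 - 1) * (q ^ 12 - 1))) : False := by
  zify at h
  rw [sub_int (by omega), sub_int (by omega), sub_int (by omega), sub_int (by omega), sub_int (by omega)] at h
  have hq' : (2 : ℤ) ≤ q := by exact_mod_cast hq
  have hc' : (1 : ℤ) ≤ c := by exact_mod_cast hc
  have hd' : (d : ℤ) ≤ 4 := by exact_mod_cast hd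
  have hd0 : (0 : ℤ) ≤ d := by positivity
  generalize (q : ℤ) = x at *
  generalize (c : ℤ) = y at *
  generalize (d : ℤ) = z at *
  obtain ⟨h2, h3, h4, h6, h8, h12⟩ := powers hq'
  have e : (x ^ 2 - 1) * (x ^ 8 - 1) * (x ^ 12 - 1) * ((x ^ 8 - 1) * (x ^ 2 + 1) * y - z * (x ^ 6 - 1)) = 0 := by
    linear_combination h
  have hne : (x ^ 2 - 1) * (x ^ 8 - 1) * (x ^ 12 - 1) ≠ 0 := by
    apply mul_ne_zero (mul_ne_zero _ _) <;> linarith only [h2, h3, h4, h6, h8, h12]
  have h9 := (mul_eq_zero.1 e).resolve_left hne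
  have h10 : (x ^ 8 - 1) * (x ^ 2 + 1) ≤ (x ^ 8 - 1) * (x ^ 2 + 1) * y := by
    have : 0 ≤ (x ^ 8 - 1) * (x ^ 2 + 1) := mul_nonneg (by linarith only [h2, h3, h4, h6, h8]) (by linarith only [h2])
    nlinarith only [hc', this]
  nlinarith only [hd', h3, h4, h6, h9, h10]

/-- `F₄`, `L₃(q⁴)` -/
theorem F4_L3 (hq : 2 ≤ q) (hd : 1 ≤ d) (hc : c < 73 ∨ c < (q ^ 2 - 1) * (q ^ 6 - 1))
    (h : ((q ^ 8 - 1) * (q ^ 12 - 1)) * c =
      d * ((q ^ 2 - 1) * (q ^ 6 - 1) * (q ^ 8 - 1) * (q ^ 12 - 1))) : False := by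
  have h1 : 4 ≤ q ^ 2 := Nat.pow_le_pow_left hq 2
  have h2 : 64 ≤ q ^ 6 := Nat.pow_le_pow_left hq 6
  have h3 : 256 ≤ q ^ 8 := Nat.pow_le_pow_left hq 8
  have h4 : 4096 ≤ q ^ 12 := Nat.pow_le_pow_left hq 12
  have h5 : 0 < (q ^ 8 - 1) * (q ^ 12 - 1) := Nat.mul_pos (by omega) (by omega)
  have h6 : c = d * ((q ^ 2 - 1) * (q ^ 6 - 1)) := by
    apply Nat.eq_of_mul_eq_mul_left h5
    rw [h]; ring
  have h7 : (q ^ 2 - 1) * (q ^ 6 - 1) ≤ c := by
    rw [h6]; exact Nat.le_mul_of_pos_left _ hd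
  have h8 : 3 * 63 ≤ (q ^ 2 - 1) * (q ^ 6 - 1) := Nat.mul_le_mul (by omega) (by omega)
  omega

/-- `F₄`, `U₄(q²)` -/
theorem F4_U4 (hq : 2 ≤ q) (hd : 1 ≤ d) (hc : c < 73 ∨ c < (q ^ 2 - 1) * (q ^ 6 - 1))
    (h : ((q ^ 4 - 1) * (q ^ 6 + 1) * (q ^ 8 - 1)) * c =
      d * ((q ^ 2 - 1) * (q ^ 6 - 1) * (q ^ 8 - 1) * (q ^ 12 - 1))) : False := by
  have h1 : 4 ≤ q ^ 2 := Nat.pow_le_pow_left hq 2
  have h2 : 64 ≤ q ^ 6 := Nat.pow_le_pow_left hq 6
  have h8 : 3 * 63 ≤ (q ^ 2 - 1) * (q ^ 6 - 1) := Nat.mul_le_mul (by omega) (by omega)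
  have hc' : c < (q ^ 2 - 1) * (q ^ 6 - 1) := by omega
  zify at h hc'
  rw [sub_int (by omega), sub_int (by omega)] at hc'
  rw [sub_int (by omega), sub_int (by omega), sub_int (by omega), sub_int (by omega), sub_int (by omega)] at h
  have hq' : (2 : ℤ) ≤ q := by exact_mod_cast hq
  have hd' : (1 : ℤ) ≤ d := by exact_mod_cast hd
  generalize (q : ℤ) = x at *
  generalize (c : ℤ) = y at *
  generalize (d : ℤ) = z at *
  obtain ⟨h2, h3, h4, h6, h8, h12⟩ := powers hq'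
  have e : (x ^ 2 - 1) * (x ^ 8 - 1) * (x ^ 6 + 1) * ((x ^ 2 + 1) * y - z * (x ^ 6 - 1) ^ 2) = 0 := by
    linear_combination h
  have hne : (x ^ 2 - 1) * (x ^ 8 - 1) * (x ^ 6 + 1) ≠ 0 := by
    apply mul_ne_zero (mul_ne_zero _ _) <;> linarith only [h2, h3, h4, h6, h8]
  have h9 := (mul_eq_zero.1 e).resolve_left hne
  have h10 : (x ^ 2 + 1) * y < (x ^ 2 + 1) * ((x ^ 2 - 1) * (x ^ 6 - 1)) := by
    apply mul_lt_mul_of_pos_left hc'; linarith only [h2]
  have h11 : (x ^ 2 + 1) * ((x ^ 2 - 1) * (x ^ 6 - 1)) = (x ^ 4 - 1) * (x ^ 6 - 1) := by ring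
  have h12 : (x ^ 4 - 1) * (x ^ 6 - 1) ≤ (x ^ 6 - 1) * (x ^ 6 - 1) := by
    apply mul_le_mul_of_nonneg_right <;> linarith only [h6, h2, h3, h4]
  have h13 : (x ^ 6 - 1) * (x ^ 6 - 1) ≤ z * (x ^ 6 - 1) ^ 2 := by
    have : 0 ≤ (x ^ 6 - 1) ^ 2 := sq_nonneg _
    nlinarith only [hd']
  linarith only [h9, h10, h12, h13]

/-- `G₂`, `C₂` -/
theorem G2_C2 (hq : 3 ≤ q) (hc : 1 ≤ c) (hd : d ≤ 2)
    (h : ((q ^ 3 - 1) * (q ^ 6 - 1)) * c = d * ((q ^ 2 - 1) * (q ^ 6 - 1))) : False := by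
  have h1 : 729 ≤ q ^ 6 := Nat.pow_le_pow_left hq 6
  have h2 : 9 ≤ q ^ 2 := Nat.pow_le_pow_left hq 2
  have h3 : 3 * q ^ 2 ≤ q ^ 3 := by
    rw [pow_succ' q 2]; exact Nat.mul_le_mul_right _ hq
  have h4 : (q ^ 3 - 1) * c = d * (q ^ 2 - 1) := by
    apply Nat.eq_of_mul_eq_mul_left (show 0 < q ^ 6 - 1 by omega)
    calc (q ^ 6 - 1) * ((q ^ 3 - 1) * c) = ((q ^ 3 - 1) * (q ^ 6 - 1)) * c := by ring
      _ = _ := by rw [h]; ring
  have h5 : q ^ 3 - 1 ≤ (q ^ 3 - 1) * c := Nat.le_mul_of_pos_right _ hc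
  have h6 : d * (q ^ 2 - 1) ≤ 2 * (q ^ 2 - 1) := Nat.mul_le_mul_right _ hd
  omega

/-- `G₂(q)`, `³D₄(t)`, `q = t²` -/
theorem G2_TD4 {t : ℕ} (ht : 2 ≤ t)
    (h : ((t ^ 2 - 1) * (t ^ 6 - 1) * (t ^ 8 + t ^ 4 + 1)) * c = (t ^ 4 - 1) * (t ^ 12 - 1)) : False := by
  zify at h
  rw [sub_int (by omega), sub_int (by omega), sub_int (by omega), sub_int (by omega)] at h
  have hq' : (2 : ℤ) ≤ t := by exact_mod_cast ht
  have hc0 : (0 : ℤ) ≤ c := by positivity
  have hc2 : (c : ℤ) ≤ 0 ∨ (c : ℤ) = 1 ∨ 2 ≤ (c : ℤ) := by omega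
  generalize (t : ℤ) = x at *
  generalize (c : ℤ) = y at *
  obtain ⟨h2, h3, h4, h6, h8, h12⟩ := powers hq'
  have e : (x ^ 2 - 1) ^ 2 * (x ^ 8 + x ^ 4 + 1) * ((x ^ 4 + x ^ 2 + 1) * y - (x ^ 2 + 1) ^ 2) = 0 := by
    linear_combination h
  have hne : (x ^ 2 - 1) ^ 2 * (x ^ 8 + x ^ 4 + 1) ≠ 0 := by
    apply mul_ne_zero (pow_ne_zero _ _) <;> linarith only [h2, h3, h4, h6, h8]
  have h9 := (mul_eq_zero.1 e).resolve_left hne
  rcases hc2 with h | h | h
  · nlinarith only [hc0, h9, h]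
  · subst h; linarith only [h2, h9]
  · nlinarith only [h9, h, _root_.sq_nonneg (x ^ 2 - 1 : ℤ), _root_.sq_nonneg (x ^ 2 + 1 : ℤ)]

/-- `G₂(q)`, `²F₄(t)`, `q = t²` -/
theorem G2_TF4 {t : ℕ} (ht : 8 ≤ t) (hc : c < 73)
    (h : ((t - 1) * (t ^ 3 + 1) * (t ^ 4 - 1) * (t ^ 6 + 1)) * c = (t ^ 4 - 1) * (t ^ 12 - 1)) : False := by
  zify at h
  rw [sub_int (by omega), sub_int (by omega), sub_int' (by omega)] at h
  have hq' : (8 : ℤ) ≤ t := by exact_mod_cast ht
  have hc2 : (c : ℤ) < 73 := by exact_mod_cast hc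
  generalize (t : ℤ) = x at *
  generalize (c : ℤ) = y at *
  obtain ⟨h2, h3, h4, h6, h8, h12⟩ := powers (show 2 ≤ x by linarith)
  have e : (x - 1) * (x ^ 3 + 1) * (x ^ 4 - 1) * (x ^ 6 + 1) * (y - (x ^ 2 + x + 1)) = 0 := by
    linear_combination h
  have hne : (x - 1) * (x ^ 3 + 1) * (x ^ 4 - 1) * (x ^ 6 + 1) ≠ 0 := by
    apply mul_ne_zero (mul_ne_zero (mul_ne_zero _ _) _) <;> linarith only [h2, h3, h4, h6, hq']
  have h9 := (mul_eq_zero.1 e).resolve_left hne
  nlinarith only [hq', hc2, h9]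

/-- `³D₄(q)`, `C₂(q³)` -/
theorem TD4_C2 (hq : 2 ≤ q) (hc : 1 ≤ c) (hd : d ≤ 2)
    (h : ((q ^ 6 - 1) * (q ^ 12 - 1)) * c = d * ((q ^ 2 - 1) * (q ^ 6 - 1) * (q ^ 8 + q ^ 4 + 1))) : False := by
  zify at h
  rw [sub_int (by omega), sub_int (by omega), sub_int (by omega)] at h
  have hq' : (2 : ℤ) ≤ q := by exact_mod_cast hq
  have hc' : (1 : ℤ) ≤ c := by exact_mod_cast hc
  have hd' : (d : ℤ) ≤ 2 := by exact_mod_cast hd
  generalize (q : ℤ) = x at *
  generalize (c : ℤ) = y at *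
  generalize (d : ℤ) = z at *
  obtain ⟨h2, h3, h4, h6, h8, h12⟩ := powers hq'
  have e : (x ^ 2 - 1) * (x ^ 6 - 1) * (x ^ 8 + x ^ 4 + 1) * ((x ^ 2 + 1) * y - z) = 0 := by
    linear_combination h
  have hne : (x ^ 2 - 1) * (x ^ 6 - 1) * (x ^ 8 + x ^ 4 + 1) ≠ 0 := by
    apply mul_ne_zero (mul_ne_zero _ _) <;> linarith only [h2, h3, h4, h6, h8]
  have h9 := (mul_eq_zero.1 e).resolve_left hne
  nlinarith only [hc', hd', h2, h9]

/-- `³D₄(q)`, `G₂(q²)` -/
theorem TD4_G2 (hq : 2 ≤ q) (hc : 1 ≤ c)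
    (h : ((q ^ 4 - 1) * (q ^ 12 - 1)) * c = (q ^ 2 - 1) * (q ^ 6 - 1) * (q ^ 8 + q ^ 4 + 1)) : False := by
  zify at h
  rw [sub_int (by omega), sub_int (by omega), sub_int (by omega), sub_int (by omega)] at h
  have hq' : (2 : ℤ) ≤ q := by exact_mod_cast hq
  have hc' : (1 : ℤ) ≤ c := by exact_mod_cast hc
  generalize (q : ℤ) = x at *
  generalize (c : ℤ) = y at *
  obtain ⟨h2, h3, h4, h6, h8, h12⟩ := powers hq'
  have e : (x ^ 2 - 1) ^ 2 * (x ^ 8 + x ^ 4 + 1) * ((x ^ 2 + 1) ^ 2 * y - (x ^ 4 + x ^ 2 + 1)) = 0 := by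
    linear_combination h
  have hne : (x ^ 2 - 1) ^ 2 * (x ^ 8 + x ^ 4 + 1) ≠ 0 := by
    apply mul_ne_zero (pow_ne_zero _ _) <;> linarith only [h2, h3, h4, h6, h8]
  have h9 := (mul_eq_zero.1 e).resolve_left hne
  have h10 : (x ^ 2 + 1) ^ 2 ≤ (x ^ 2 + 1) ^ 2 * y := by
    have : 0 ≤ (x ^ 2 + 1) ^ 2 := sq_nonneg _
    nlinarith only [hc']
  linarith only [h2, h9, h10]

/-- `³D₄(q)`, `²F₄(q)` -/
theorem TD4_TF4 (hq : 2 ≤ q)
    (h : ((q - 1) * (q ^ 3 + 1) * (q ^ 4 - 1) * (q ^ 6 + 1)) * c = (q ^ 2 - 1) * (q ^ 6 - 1) * (q ^ 8 + q ^ 4 + 1)) :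
    False := by
  zify at h
  rw [sub_int (by omega), sub_int (by omega), sub_int (by omega), sub_int' (by omega)] at h
  have hq' : (2 : ℤ) ≤ q := by exact_mod_cast hq
  generalize (q : ℤ) = x at *
  generalize (c : ℤ) = y at *
  obtain ⟨h2, h3, h4, h6, h8, h12⟩ := powers hq'
  have e : (x - 1) * (x ^ 2 - 1) * (x ^ 3 + 1) * (x ^ 6 + 1) *
      ((x ^ 2 + 1) ^ 2 * y - (x ^ 2 + x + 1) * (x ^ 4 + x ^ 2 + 1)) = 0 := by
    have h' : (x ^ 4 - 1) * (((x - 1) * (x ^ 3 + 1) * (x ^ 4 - 1) * (x ^ 6 + 1)) * y) =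
      (x ^ 4 - 1) * ((x ^ 2 - 1) * (x ^ 6 - 1) * (x ^ 8 + x ^ 4 + 1)) := by rw [h]
    have h'' : (x - 1) * (x + 1) * ((x - 1) * (x ^ 2 - 1) * (x ^ 3 + 1) * (x ^ 6 + 1) *
      ((x ^ 2 + 1) ^ 2 * y - (x ^ 2 + x + 1) * (x ^ 4 + x ^ 2 + 1))) = 0 := by
      linear_combination h'
    refine (mul_eq_zero.1 h'').resolve_left (mul_ne_zero ?_ ?_) <;> linarith only [hq']
  have hne : (x - 1) * (x ^ 2 - 1) * (x ^ 3 + 1) * (x ^ 6 + 1) ≠ 0 := by
    apply mul_ne_zero (mul_ne_zero (mul_ne_zero _ _) _) <;> linarith only [h2, h3, h4, h6, hq']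
  have h9 := (mul_eq_zero.1 e).resolve_left hne
  -- `x² + 1` divides `x`
  have h10 : x ^ 2 + 1 ∣ x := by
    have : x = (x ^ 2 + 1) * ((x ^ 2 + 1) * y - (x ^ 2 * (x ^ 2 + 1) + 1 + x ^ 3)) := by
      linear_combination (-1 : ℤ) * h9
    exact ⟨_, this⟩
  have h11 := Int.le_of_dvd (by linarith) h10
  nlinarith only [h11]

end

end Cfsg.Agent.H962.IdArith
end

-- part: H962/IdSame
section
/-!
# Identification in equal characteristic of a simple factor of an exceptional order (helper962)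

`same_id` : `|X(p^e)| * c * p^a = |Y(p^f)|`, `Y` exceptional, `c` small: then `X = Y` and `e = f`.
-/

set_option autoImplicit false

namespace Cfsg.Agent.H962.IdSame

open Cfsg.Agent.H902 Cfsg.Agent.H902.Art Cfsg.Agent.Lib.Zsigmondy Cfsg.Agent.H962.IdArith

/-- the exceptional shapes -/
inductive IsExc : Sh → Prop
  | G2 : IsExc .G2
  | F4 : IsExc .F4
  | E6 : IsExc .E6
  | E7 : IsExc .E7
  | E8 : IsExc .E8
  | TE6 : IsExc .TE6
  | TD4 : IsExc .TD4

theorem IsExc.DM_ge {Y : Sh} (h : IsExc Y) : 6 ≤ DM Y := by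
  cases h <;> decide

theorem IsExc.DM_eq {Y : Sh} (h : IsExc Y) : Y = .G2 ∨ 12 ≤ DM Y := by
  cases h
  · exact Or.inl rfl
  all_goals exact Or.inr (by decide)

/-! ### the orders of small shapes over extension fields -/

theorem num_L3 (x : ℕ) : num (.L 3) (x ^ 4) = (x ^ 8 - 1) * (x ^ 12 - 1) := by
  show ∏ i ∈ Finset.range 2, ((x ^ 4) ^ (i + 2) - 1) = _
  rw [Finset.prod_range_succ, Finset.prod_range_one, ← pow_mul, ← pow_mul]

theorem num_U4 (x : ℕ) : num (.U 4) (x ^ 2) = (x ^ 4 - 1) * (x ^ 6 + 1) * (x ^ 8 - 1) := by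
  show ∏ i ∈ Finset.range 3, (if Even i then (x ^ 2) ^ (i + 2) - 1 else (x ^ 2) ^ (i + 2) + 1) = _
  rw [Finset.prod_range_succ, Finset.prod_range_succ, Finset.prod_range_one, if_pos (by decide),
    if_neg (by decide), if_pos (by decide), ← pow_mul, ← pow_mul, ← pow_mul]

theorem num_D4 (x : ℕ) : num (.D 4) (x ^ 2) = (x ^ 8 - 1) * ((x ^ 4 - 1) * (x ^ 8 - 1) * (x ^ 12 - 1)) := by
  show ((x ^ 2) ^ 4 - 1) * ∏ i ∈ Finset.range 3, ((x ^ 2) ^ (2 * (i + 1)) - 1) = _
  rw [Finset.prod_range_succ, Finset.prod_range_succ, Finset.prod_range_one, ← pow_mul, ← pow_mul, ← pow_mul]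

theorem num_G2 (x : ℕ) : num .G2 (x ^ 2) = (x ^ 4 - 1) * (x ^ 12 - 1) := by
  show ((x ^ 2) ^ 2 - 1) * ((x ^ 2) ^ 6 - 1) = _
  rw [← pow_mul, ← pow_mul]

theorem num_C2 (x : ℕ) : num (.C 2) x = (x ^ 2 - 1) * (x ^ 4 - 1) := by
  show ∏ i ∈ Finset.range 2, (x ^ (2 * (i + 1)) - 1) = _
  rw [Finset.prod_range_succ, Finset.prod_range_one]

section main

variable {X Y : Sh} {p e f M N c a : ℕ}

theorem six_le (hY : Real Y p f M) (hE : IsExc Y) : 6 ≤ f * DM Y := by
  have h1 := hE.DM_ge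
  have h2 := hY.hf
  nlinarith

/-- `q = 2` is excluded for `G₂` -/
theorem not_two_six (hY : Real Y p f M) (hE : IsExc Y) : ¬ (p = 2 ∧ f * DM Y = 6) := by
  rintro ⟨rfl, h6⟩
  have hf := hY.hf
  rcases hE.DM_eq with rfl | h
  · have h1 : f = 1 := by
      have h2 : f * 6 = 6 := h6
      omega
    subst h1
    have h3 : 3 ≤ 2 ^ 1 := hY.ok
    omega
  · nlinarith

/-- primes of the two orders -/
theorem dvd_of (hYM : Real Y p f M) (heq : N * c * p ^ a = M) {r : ℕ} (hr : r.Prime) (hrp : r ≠ p) (hd : r ∣ M)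
    (hc : ¬ r ∣ c) : r ∣ N := by
  rw [← heq] at hd
  rcases (hr.dvd_mul).1 hd with h | h
  · exact ((hr.dvd_mul).1 h).resolve_right hc
  · exact absurd ((Nat.prime_dvd_prime_iff_eq hr hYM.hp).1 (hr.dvd_of_dvd_pow h)) hrp

theorem N_dvd (heq : N * c * p ^ a = M) : N ∣ M := ⟨c * p ^ a, by rw [← heq, mul_assoc]⟩

/-- `f DM Y ≤ e DM X` -/
theorem DM_le₁ (hX : Real X p e N) (hY : Real Y p f M) (hE : IsExc Y) (heq : N * c * p ^ a = M)
    (hcr : ∀ r, r.Prime → orderOf (p : ZMod r) = f * DM Y → ¬ r ∣ c) : f * DM Y ≤ e * DM X := by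
  have h6 := six_le hY hE
  obtain ⟨r, hr, ho⟩ := exists_prime_orderOf hY.hp.two_le (show 2 ≤ f * DM Y by omega) (fun h => by omega)
    (not_two_six hY hE)
  have hrp : r ≠ p := ne_of_order hr (show 1 ≤ f * DM Y by omega) ho
  have hd := dvd_of hY heq hr hrp (hY.dvd_of_order_DM hr ho (by omega)) (hcr r hr ho)
  have hg := hX.hf
  have hge := Art.DM_ge hX
  have hlt := BM_lt hX
  rcases hX.order_cases hr hrp hd with h | ⟨e', he, heB, h⟩
  · rw [ho] at h
    exact Nat.le_of_dvd (Nat.mul_pos hg (by omega)) h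
  · rw [ho] at h
    exact (Nat.le_of_dvd (Nat.mul_pos hg he) h).trans (Nat.mul_le_mul_left _ (by omega))

/-- `e DM X ≤ f DM Y` -/
theorem DM_le₂ (hX : Real X p e N) (hY : Real Y p f M) (hE : IsExc Y) (heq : N * c * p ^ a = M)
    (h1 : f * DM Y ≤ e * DM X) : e * DM X ≤ f * DM Y := by
  have h6 := six_le hY hE
  by_cases h2 : p = 2 ∧ e * DM X = 6
  · omega
  obtain ⟨r, hr, ho⟩ := exists_prime_orderOf hX.hp.two_le (show 2 ≤ e * DM X by omega) (fun h => by omega) h2
  have hrp : r ≠ p := ne_of_order hr (show 1 ≤ e * DM X by omega) ho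
  have hd : r ∣ M := (hX.dvd_of_order_DM hr ho (by omega)).trans (N_dvd heq)
  have hg := hY.hf
  have hge := Art.DM_ge hY
  have hlt := BM_lt hY
  rcases hY.order_cases hr hrp hd with h | ⟨e', he, heB, h⟩
  · rw [ho] at h
    exact Nat.le_of_dvd (Nat.mul_pos hg (by omega)) h
  · rw [ho] at h
    exact (Nat.le_of_dvd (Nat.mul_pos hg he) h).trans (Nat.mul_le_mul_left _ (by omega))

theorem c_ne (hY : Real Y p f M) (heq : N * c * p ^ a = M) : c ≠ 0 := by
  rintro rfl
  apply hY.M_ne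
  rw [← heq]; ring

/-- the `p`-parts -/
theorem exps (hX : Real X p e N) (hY : Real Y p f M) (heq : N * c * p ^ a = M) :
    e * NN X + c.factorization p + a = f * NN Y := by
  rw [P_prime_exp hX, P_prime_exp hY, ← heq,
    Nat.factorization_mul (Nat.mul_ne_zero hX.M_ne (c_ne hY heq)) (pow_ne_zero _ hY.hp.ne_zero),
    Nat.factorization_mul hX.M_ne (c_ne hY heq), hY.hp.factorization_pow, Finsupp.add_apply, Finsupp.add_apply,
    Finsupp.single_eq_same]

/-- `kap X + s = kap Y`, and `p ∤ c` -/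
theorem kap_eq (hX : Real X p e N) (hY : Real Y p f M) (heq : N * c * p ^ a = M)
    (hD : e * DM X = f * DM Y) (hcp : 4 * c.factorization p < f * DM Y) {s : ℕ} (hs : 4 * a = f * DM Y * s) :
    kap X + s = kap Y ∧ c.factorization p = 0 := by
  have h1 := exps hX hY heq
  have h2 := four_NN hX
  have h3 := four_NN hY
  have h4 : f * DM Y * kap X + 4 * c.factorization p + f * DM Y * s = f * DM Y * kap Y := by
    have e1 : 4 * (e * NN X) = f * DM Y * kap X := by
      rw [← hD, mul_assoc, ← h2]; ring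
    have e2 : 4 * (f * NN Y) = f * DM Y * kap Y := by
      rw [mul_assoc, ← h3]; ring
    omega
  generalize f * DM Y = E at *
  have h5 : kap X + s ≤ kap Y := by
    by_contra hcon
    have h6 : E * (kap Y + 1) ≤ E * (kap X + s) := Nat.mul_le_mul_left _ (by omega)
    have h7 : E * (kap X + s) = E * kap X + E * s := by ring
    have h8 : E * (kap Y + 1) = E * kap Y + E := by ring
    omega
  have h6 : kap X + s = kap Y := by
    by_contra hcon
    have h6 : E * (kap X + s + 1) ≤ E * kap Y := Nat.mul_le_mul_left _ (by omega)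
    have h7 : E * (kap X + s + 1) = E * kap X + E * s + E := by ring
    omega
  refine ⟨h6, ?_⟩
  have h7 : E * kap Y = E * kap X + E * s := by rw [← h6]; ring
  omega

/-- The second exponents, `Y` with two large exponents. -/
theorem BM_eq (hX : Real X p e N) (hY : Real Y p f M) (heq : N * c * p ^ a = M)
    (hD : e * DM X = f * DM Y) (hB : DM Y < 2 * BM Y) (h8 : 8 ≤ BM Y)
    (hcr : ∀ r, r.Prime → orderOf (p : ZMod r) = f * BM Y → ¬ r ∣ c) :
    DM X < 2 * BM X ∧ e * BM X = f * BM Y := by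
  have hf := hY.hf
  have hg := hX.hf
  have hgeX := Art.DM_ge hX
  have hgeY := Art.DM_ge hY
  have hltX := BM_lt hX
  have hltY := BM_lt hY
  have h8' : 8 ≤ f * BM Y := by nlinarith only [h8, hf]
  have hle : f * BM Y ≤ e * BM X := by
    obtain ⟨r, hr, ho⟩ := exists_prime_orderOf hY.hp.two_le (show 2 ≤ f * BM Y by omega) (fun h => by omega)
      (fun h => by omega)
    have hrp : r ≠ p := ne_of_order hr (show 1 ≤ f * BM Y by omega) ho
    have hd := dvd_of hY heq hr hrp (hY.dvd_of_order_BM hr hB ho (by omega)) (hcr r hr ho)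
    rcases hX.order_cases hr hrp hd with h | ⟨e', he, heB, h⟩
    · exfalso
      rw [ho, hD] at h
      obtain ⟨c', hc⟩ := Nat.dvd_of_mul_dvd_mul_left hf h
      have hc2 : c' < 2 := by
        by_contra hcon
        have : BM Y * 2 ≤ BM Y * c' := Nat.mul_le_mul_left _ (by omega)
        omega
      have hc0 : c' ≠ 0 := by rintro rfl; omega
      have hc1 : c' = 1 := by omega
      rw [hc1] at hc
      omega
    · rw [ho] at h
      exact (Nat.le_of_dvd (Nat.mul_pos hg he) h).trans (Nat.mul_le_mul_left _ heB)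
  have hBX : DM X < 2 * BM X := by
    have h5 : e * DM X < e * (2 * BM X) := by
      calc e * DM X = f * DM Y := hD
        _ < f * (2 * BM Y) := Nat.mul_lt_mul_of_pos_left hB hf
        _ = 2 * (f * BM Y) := by ring
        _ ≤ 2 * (e * BM X) := Nat.mul_le_mul_left _ hle
        _ = e * (2 * BM X) := by ring
    exact Nat.lt_of_mul_lt_mul_left h5
  refine ⟨hBX, le_antisymm ?_ hle⟩
  obtain ⟨r, hr, ho⟩ := exists_prime_orderOf hX.hp.two_le (show 2 ≤ e * BM X by omega) (fun h => by omega)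
    (fun h => by omega)
  have hrp : r ≠ p := ne_of_order hr (show 1 ≤ e * BM X by omega) ho
  have hd : r ∣ M := (hX.dvd_of_order_BM hr hBX ho (by omega)).trans (N_dvd heq)
  rcases hY.order_cases hr hrp hd with h | ⟨e', he, heB, h⟩
  · exfalso
    rw [ho, ← hD] at h
    obtain ⟨c', hc⟩ := Nat.dvd_of_mul_dvd_mul_left hg h
    have hc2 : c' < 2 := by
      by_contra hcon
      have : BM X * 2 ≤ BM X * c' := Nat.mul_le_mul_left _ (by omega)
      omega
    have hc0 : c' ≠ 0 := by rintro rfl; omega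
    have hc1 : c' = 1 := by omega
    rw [hc1] at hc
    omega
  · rw [ho] at h
    exact (Nat.le_of_dvd (Nat.mul_pos hf he) h).trans (Nat.mul_le_mul_left _ heB)

/-- `Y` with one large exponent: so has `X`. -/
theorem typB_of (hX : Real X p e N) (hY : Real Y p f M) (heq : N * c * p ^ a = M)
    (hD : e * DM X = f * DM Y) (hB : ¬ DM Y < 2 * BM Y) (hE : IsExc Y) : ¬ DM X < 2 * BM X := by
  intro hBX
  have hf := hY.hf
  have hg := hX.hf
  have h6 := six_le hY hE
  have hlt : f * DM Y < 2 * (e * BM X) := by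
    calc f * DM Y = e * DM X := hD.symm
      _ < e * (2 * BM X) := Nat.mul_lt_mul_of_pos_left hBX hg
      _ = 2 * (e * BM X) := by ring
  have h2 : ¬ (p = 2 ∧ e * BM X = 6) := by
    rintro ⟨rfl, h⟩
    have hn := not_two_six hY hE
    -- `f DM Y < 12`
    rcases hE.DM_eq with rfl | h12
    · have h7 : f * 6 < 12 := by
        have : f * DM .G2 = f * 6 := rfl
        omega
      exact hn ⟨rfl, by show f * 6 = 6; omega⟩
    · nlinarith only [hf, hlt, h, h12]
  obtain ⟨r, hr, ho⟩ := exists_prime_orderOf hX.hp.two_le (show 2 ≤ e * BM X by omega) (fun h => by omega) h2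
  have hrp : r ≠ p := ne_of_order hr (show 1 ≤ e * BM X by omega) ho
  have hd : r ∣ M := (hX.dvd_of_order_BM hr hBX ho (by omega)).trans (N_dvd heq)
  have hltX := BM_lt hX
  rcases hY.order_cases hr hrp hd with h | ⟨e', he, heB, h⟩
  · rw [ho, ← hD] at h
    obtain ⟨c', hc⟩ := Nat.dvd_of_mul_dvd_mul_left hg h
    have hc2 : c' < 2 := by
      by_contra hcon
      have : BM X * 2 ≤ BM X * c' := Nat.mul_le_mul_left _ (by omega)
      omega
    have hge := Art.DM_ge hX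
    have hc0 : c' ≠ 0 := by rintro rfl; omega
    have hc1 : c' = 1 := by omega
    rw [hc1] at hc
    omega
  · rw [ho] at h
    have h7 := (Nat.le_of_dvd (Nat.mul_pos hf he) h).trans (Nat.mul_le_mul_left _ heB)
    have h8 : 2 * (f * BM Y) ≤ f * DM Y := by
      calc 2 * (f * BM Y) = f * (2 * BM Y) := by ring
        _ ≤ f * DM Y := Nat.mul_le_mul_left _ (by omega)
    omega

/-- the equation for the parts prime to `p` -/
theorem cross_eq (hX : Real X p e N) (hY : Real Y p f M) (heq : N * c * p ^ a = M) (hc : c.factorization p = 0) :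
    dd Y (p ^ f) * (num X (p ^ e) * c) = dd X (p ^ e) * num Y (p ^ f) := by
  have h1 := exps hX hY heq
  rw [hc, add_zero] at h1
  have h2 := hX.eq
  have h3 := hY.eq
  have h4 : 0 < (p ^ f) ^ NN Y := pow_pos (pow_pos hY.hp.pos _) _
  apply Nat.eq_of_mul_eq_mul_left h4
  have h5 : (p ^ f) ^ NN Y = (p ^ e) ^ NN X * p ^ a := by
    rw [← pow_mul, ← pow_mul, ← pow_add, h1]
  calc (p ^ f) ^ NN Y * (dd Y (p ^ f) * (num X (p ^ e) * c))
      = dd Y (p ^ f) * p ^ a * c * ((p ^ e) ^ NN X * num X (p ^ e)) := by rw [h5]; ring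
    _ = dd Y (p ^ f) * p ^ a * c * (dd X (p ^ e) * N) := by rw [h2]
    _ = dd X (p ^ e) * (dd Y (p ^ f) * (N * c * p ^ a)) := by ring
    _ = dd X (p ^ e) * ((p ^ f) ^ NN Y * num Y (p ^ f)) := by rw [heq, h3]
    _ = _ := by ring

/-- the cross ratio of the exponents -/
theorem ratio (hX : Real X p e N) (hY : Real Y p f M) (hD : e * DM X = f * DM Y) (hB : e * BM X = f * BM Y) :
    DM X * (DM Y - BM Y) = DM Y * (DM X - BM X) := by
  have hf := hY.hf
  have hg := hX.hf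
  have hdd : e * (DM X - BM X) = f * (DM Y - BM Y) := by
    rw [Nat.mul_sub, Nat.mul_sub, hD, hB]
  have h7 : f * e * (DM X * (DM Y - BM Y)) = f * e * (DM Y * (DM X - BM X)) := by
    calc f * e * (DM X * (DM Y - BM Y)) = (e * DM X) * (f * (DM Y - BM Y)) := by ring
      _ = (f * DM Y) * (e * (DM X - BM X)) := by rw [hD, hdd]
      _ = _ := by ring
  exact Nat.eq_of_mul_eq_mul_left (Nat.mul_pos hf hg) h7

/-- primes of index `8` of `E₆`, `²E₆` -/
theorem dvd_eight (hY : Real Y p f M) (hE : Y = .E6 ∨ Y = .TE6) {r : ℕ} (hr : r.Prime)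
    (ho : orderOf (p : ZMod r) = f * 8) : r ∣ M := by
  have hf := hY.hf
  refine hY.dvd_of_dvd_num hr (hY.not_dvd_dd_of_order hr ho (by omega) (by norm_num) (fun _ => by norm_num)) ?_
  have h1 : r ∣ (p ^ f) ^ 8 - 1 := (dvd_iff hY.hp 8).2 (by rw [ho])
  rcases hE with rfl | rfl
  · show r ∣ ((p ^ f) ^ 2 - 1) * ((p ^ f) ^ 5 - 1) * ((p ^ f) ^ 6 - 1) * ((p ^ f) ^ 8 - 1) * ((p ^ f) ^ 9 - 1) *
      ((p ^ f) ^ 12 - 1)
    exact (h1.mul_left _).mul_right _ |>.mul_right _
  · show r ∣ ((p ^ f) ^ 2 - 1) * ((p ^ f) ^ 5 + 1) * ((p ^ f) ^ 6 - 1) * ((p ^ f) ^ 8 - 1) * ((p ^ f) ^ 9 + 1) *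
      ((p ^ f) ^ 12 - 1)
    exact (h1.mul_left _).mul_right _ |>.mul_right _

/-- the index `8` kills a shape -/
theorem kill_eight (hX : Real X p e N) (hY : Real Y p f M) (hE : Y = .E6 ∨ Y = .TE6) (heq : N * c * p ^ a = M)
    (hcr : ∀ r, r.Prime → orderOf (p : ZMod r) = f * 8 → ¬ r ∣ c)
    (h : ¬ f * 8 ∣ e * DM X ∧ ∀ e', 1 ≤ e' → e' ≤ BM X → ¬ f * 8 ∣ e * e') : False := by
  have hf := hY.hf
  obtain ⟨r, hr, ho⟩ := exists_prime_orderOf hY.hp.two_le (show 2 ≤ f * 8 by omega) (fun h => by omega)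
    (fun h => by omega)
  have hrp : r ≠ p := ne_of_order hr (show 1 ≤ f * 8 by omega) ho
  have hd := dvd_of hY heq hr hrp (dvd_eight hY hE hr ho) (hcr r hr ho)
  rcases hX.order_cases hr hrp hd with h' | ⟨e', he, heB, h'⟩
  · rw [ho] at h'; exact h.1 h'
  · rw [ho] at h'; exact h.2 e' he heB h'

/-- the index `8 e` of `²E₆(p^e)` kills `F₄` -/
theorem kill_TE6 (hX : Real .TE6 p e N) (hY : Real .F4 p f M) (heq : N * c * p ^ a = M) (h : 3 * e = 2 * f) :
    False := by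
  have hf := hY.hf
  have hg := hX.hf
  obtain ⟨r, hr, ho⟩ := exists_prime_orderOf hX.hp.two_le (show 2 ≤ e * 8 by omega) (fun h => by omega)
    (fun h => by omega)
  have hrp : r ≠ p := ne_of_order hr (show 1 ≤ e * 8 by omega) ho
  have hd : r ∣ M := (dvd_eight hX (Or.inr rfl) hr ho).trans (N_dvd heq)
  rcases hY.order_cases hr hrp hd with h' | ⟨e', he, heB, h'⟩
  · rw [ho] at h'
    -- `8 e ∣ 12 f = 18 e`
    have h2 : e * 8 ∣ e * 18 := by
      have h3 : e * 18 = f * 12 := by omega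
      rw [h3]; exact h'
    have h3 := Nat.dvd_of_mul_dvd_mul_left hg h2
    revert h3; decide
  · rw [ho] at h'
    have heB' : e' ≤ 8 := heB
    have h2 : e * 16 ∣ e * (3 * e') := by
      have h3 : e * (3 * e') = 2 * (f * e') := by
        calc e * (3 * e') = 3 * e * e' := by ring
          _ = 2 * f * e' := by rw [h]
          _ = _ := by ring
      rw [h3]
      have h4 : e * 16 = 2 * (e * 8) := by ring
      rw [h4]
      exact Nat.mul_dvd_mul_left 2 h'
    have h3 := Nat.dvd_of_mul_dvd_mul_left hg h2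
    revert h3
    interval_cases e' <;> decide

theorem mul_dvd_cases {f e k l : ℕ} (hf : 1 ≤ f) (u v : ℕ) (h : u * e = v * f) (hd : f * k ∣ e * l) :
    u * k ∣ v * l := by
  obtain ⟨w, hw⟩ := hd
  refine ⟨w, ?_⟩
  apply Nat.eq_of_mul_eq_mul_left hf
  calc f * (v * l) = v * f * l := by ring
    _ = u * e * l := by rw [h]
    _ = u * (e * l) := by ring
    _ = u * (f * k * w) := by rw [hw]
    _ = _ := by ring

/-- **Identification in equal characteristic.** -/
theorem same_id (hX : Real X p e N) (hY : Real Y p f M) (hE : IsExc Y) (heq : N * c * p ^ a = M)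
    (hcp : 4 * c.factorization p < f * DM Y)
    (hcr : ∀ r, r.Prime → (orderOf (p : ZMod r) = f * DM Y ∨ orderOf (p : ZMod r) = f * BM Y ∨
      orderOf (p : ZMod r) = f * 8) → ¬ r ∣ c)
    (ha : (Y = .F4 ∧ 12 * f ∣ a) ∨ (Y = .E6 ∧ 9 * f ∣ a) ∨ (Y = .TE6 ∧ 18 * f ∣ a) ∨ a = 0)
    (hc : c < 73 ∨ Y ≠ .G2 ∧ Y ≠ .TD4 ∧ c < ((p ^ f) ^ 2 - 1) * ((p ^ f) ^ 6 - 1)) : X = Y ∧ e = f := by
  have hf := hY.hf
  have hg := hX.hf
  have hq := hY.q_ge
  have hge := Art.DM_ge hX
  have hc1 : 1 ≤ c := Nat.one_le_iff_ne_zero.2 (c_ne hY heq)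
  have h1 := DM_le₁ hX hY hE heq fun r hr ho => hcr r hr (Or.inl ho)
  have hD := le_antisymm (DM_le₂ hX hY hE heq h1) h1
  have fin : X = Y → X = Y ∧ e = f := by
    intro h
    refine ⟨h, ?_⟩
    rw [h] at hD
    exact Nat.eq_of_mul_eq_mul_right (by have := hE.DM_ge; omega) hD
  -- the number `s`
  obtain ⟨s, hs, hs'⟩ : ∃ s, 4 * a = f * DM Y * s ∧ ((Y = .F4 ∧ 4 ∣ s) ∨ (Y = .E6 ∧ 3 ∣ s) ∨ (Y = .TE6 ∧ 4 ∣ s) ∨
      s = 0) := by
    rcases ha with ⟨rfl, j, hj⟩ | ⟨rfl, j, hj⟩ | ⟨rfl, j, hj⟩ | rfl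
    · exact ⟨4 * j, by rw [hj]; show 4 * (12 * f * j) = f * 12 * (4 * j); ring, Or.inl ⟨rfl, j, rfl⟩⟩
    · exact ⟨3 * j, by rw [hj]; show 4 * (9 * f * j) = f * 12 * (3 * j); ring, Or.inr (Or.inl ⟨rfl, j, rfl⟩)⟩
    · exact ⟨4 * j, by rw [hj]; show 4 * (18 * f * j) = f * 18 * (4 * j); ring,
        Or.inr (Or.inr (Or.inl ⟨rfl, j, rfl⟩))⟩
    · exact ⟨0, by ring, Or.inr (Or.inr (Or.inr rfl))⟩
  obtain ⟨hk, hcp0⟩ := kap_eq hX hY heq hD hcp hs
  have hcross := cross_eq hX hY heq hcp0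
  have hdX : 1 ≤ dd X (p ^ e) := Nat.one_le_iff_ne_zero.2 hX.dd_ne
  by_cases hB : DM Y < 2 * BM Y
  · -- two large exponents
    have h8 : 8 ≤ BM Y := by
      cases hE
      all_goals first | decide | (exfalso; revert hB; decide)
    obtain ⟨hBX, hBB⟩ := BM_eq hX hY heq hD hB h8 fun r hr ho => hcr r hr (Or.inr (Or.inl ho))
    have hr := ratio hX hY hD hBB
    have hT := typA hX hBX
    cases hE with
    | G2 => exact absurd hB (by decide)
    | TD4 => exact absurd hB (by decide)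
    | E8 =>
      have hs0 : s = 0 := by
        rcases hs' with ⟨h, -⟩ | ⟨h, -⟩ | ⟨h, -⟩ | h
        · cases h
        · cases h
        · cases h
        · exact h
      apply fin
      have e1 : DM X * 6 = 30 * (DM X - BM X) := hr
      have e2 : kap X + s = 16 := hk
      rw [hs0] at e2
      generalize DM X = D at *
      generalize kap X = k at *
      generalize D - BM X = d at *
      cases hT <;> first | rfl | (exfalso; (clear * - hs0 e1 hk e2; omega))
    | E7 =>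
      have hs0 : s = 0 := by
        rcases hs' with ⟨h, -⟩ | ⟨h, -⟩ | ⟨h, -⟩ | h
        · cases h
        · cases h
        · cases h
        · exact h
      apply fin
      have e1 : DM X * 4 = 18 * (DM X - BM X) := hr
      have e2 : kap X + s = 14 := hk
      rw [hs0] at e2
      generalize DM X = D at *
      generalize kap X = k at *
      generalize D - BM X = d at *
      cases hT <;> first | rfl | (exfalso; (clear * - e1 e2; omega))
    | E6 =>
      have hs0 : 3 ∣ s := by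
        rcases hs' with ⟨h, -⟩ | ⟨-, h⟩ | ⟨h, -⟩ | h
        · cases h
        · exact h
        · cases h
        · rw [h]; exact dvd_zero _
      have e1 : DM X * 3 = 12 * (DM X - BM X) := hr
      have e2 : kap X + s = 12 := hk
      have hX3 : X = .E6 ∨ X = .L 4 ∨ X = .DD 4 := by
        clear hcross hdX fin hcr hc hcp hD hk hs hBB hBX hr
        generalize DM X = D at *
        generalize kap X = k at *
        generalize D - BM X = d at *
        cases hT with
        | L n h => right; left; congr 1; omega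
        | DD n h => right; right; congr 1; omega
        | E6 => exact Or.inl rfl
        | _ => exfalso; (clear * - hs0 e1 e2; omega)
      rcases hX3 with rfl | rfl | rfl
      · exact fin rfl
      · exfalso
        have e3 : 1 * e = 3 * f := by
          have : e * 4 = f * 12 := hD
          omega
        refine kill_eight hX hY (Or.inl rfl) heq (fun r hr ho => hcr r hr (Or.inr (Or.inr ho))) ⟨fun h => ?_,
          fun e' he1 he2 h => ?_⟩
        · have h := mul_dvd_cases hf 1 3 e3 h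
          revert h; decide
        · have h := mul_dvd_cases hf 1 3 e3 h
          have he3 : e' ≤ 3 := he2
          revert h
          interval_cases e' <;> decide
      · exfalso
        have e3 : 2 * e = 3 * f := by
          have : e * 8 = f * 12 := hD
          omega
        refine kill_eight hX hY (Or.inl rfl) heq (fun r hr ho => hcr r hr (Or.inr (Or.inr ho))) ⟨fun h => ?_,
          fun e' he1 he2 h => ?_⟩
        · have h := mul_dvd_cases hf 2 3 e3 h
          revert h; decide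
        · have h := mul_dvd_cases hf 2 3 e3 h
          have he3 : e' ≤ 6 := he2
          revert h
          interval_cases e' <;> decide
    | F4 =>
      have hs0 : 4 ∣ s := by
        rcases hs' with ⟨-, h⟩ | ⟨h, -⟩ | ⟨h, -⟩ | h
        · exact h
        · cases h
        · cases h
        · rw [h]; exact dvd_zero _
      have e1 : DM X * 4 = 12 * (DM X - BM X) := hr
      have e2 : kap X + s = 8 := hk
      have hX3 : X = .F4 ∨ X = .L 3 ∨ X = .U 4 ∨ X = .D 4 ∨ X = .TE6 := by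
        clear hcross hdX fin hcr hc hcp hD hk hs hBB hBX hr
        generalize DM X = D at *
        generalize kap X = k at *
        generalize D - BM X = d at *
        cases hT with
        | L n h => right; left; congr 1; omega
        | U4 => exact Or.inr (Or.inr (Or.inl rfl))
        | D n h => right; right; right; left; congr 1; omega
        | TE6 => exact Or.inr (Or.inr (Or.inr (Or.inr rfl)))
        | F4 => exact Or.inl rfl
        | _ => exfalso; omega
      have hc' : c < 73 ∨ c < ((p ^ f) ^ 2 - 1) * ((p ^ f) ^ 6 - 1) := by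
        rcases hc with h | ⟨-, -, h⟩
        · exact Or.inl h
        · exact Or.inr h
      rcases hX3 with rfl | rfl | rfl | rfl | rfl
      · exact fin rfl
      · exfalso
        have e3 : e = 4 * f := by
          have : e * 3 = f * 12 := hD
          omega
        have e4 : p ^ e = (p ^ f) ^ 4 := by rw [e3, ← pow_mul]; congr 1; ring
        rw [e4] at hcross hdX
        refine F4_L3 hq hdX hc' ?_
        have h5 := num_L3 (p ^ f)
        rw [h5] at hcross
        have h6 : dd .F4 (p ^ f) = 1 := rfl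
        rw [h6, one_mul] at hcross
        exact hcross
      · exfalso
        have e3 : e = 2 * f := by
          have : e * 6 = f * 12 := hD
          omega
        have e4 : p ^ e = (p ^ f) ^ 2 := by rw [e3, ← pow_mul]; congr 1; ring
        rw [e4] at hcross hdX
        refine F4_U4 hq hdX hc' ?_
        have h5 := num_U4 (p ^ f)
        rw [h5] at hcross
        have h6 : dd .F4 (p ^ f) = 1 := rfl
        rw [h6, one_mul] at hcross
        exact hcross
      · exfalso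
        have e3 : e = 2 * f := by
          have : e * 6 = f * 12 := hD
          omega
        have e4 : p ^ e = (p ^ f) ^ 2 := by rw [e3, ← pow_mul]; congr 1; ring
        rw [e4] at hcross hdX
        have hd4 : dd (.D 4) ((p ^ f) ^ 2) ≤ 4 := Nat.gcd_le_left _ (by norm_num)
        refine F4_D4 hq hc1 hd4 ?_
        have h5 := num_D4 (p ^ f)
        rw [h5] at hcross
        have h6 : dd .F4 (p ^ f) = 1 := rfl
        rw [h6, one_mul] at hcross
        exact hcross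
      · exfalso
        have e3 : 3 * e = 2 * f := by
          have : e * 18 = f * 12 := hD
          omega
        exact kill_TE6 hX hY heq e3
    | TE6 =>
      have hs0 : 4 ∣ s := by
        rcases hs' with ⟨h, -⟩ | ⟨h, -⟩ | ⟨-, h⟩ | h
        · cases h
        · cases h
        · exact h
        · rw [h]; exact dvd_zero _
      have e1 : DM X * 6 = 18 * (DM X - BM X) := hr
      have e2 : kap X + s = 8 := hk
      have hX3 : X = .TE6 ∨ X = .L 3 ∨ X = .U 4 ∨ X = .D 4 ∨ X = .F4 := by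
        clear hcross hdX fin hcr hc hcp hD hk hs hBB hBX hr
        generalize DM X = D at *
        generalize kap X = k at *
        generalize D - BM X = d at *
        cases hT with
        | L n h => right; left; congr 1; omega
        | U4 => exact Or.inr (Or.inr (Or.inl rfl))
        | D n h => right; right; right; left; congr 1; omega
        | TE6 => exact Or.inl rfl
        | F4 => exact Or.inr (Or.inr (Or.inr (Or.inr rfl)))
        | _ => exfalso; omega
      rcases hX3 with rfl | rfl | rfl | rfl | rfl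
      · exact fin rfl
      · exfalso
        have e3 : 1 * e = 6 * f := by
          have : e * 3 = f * 18 := hD
          omega
        refine kill_eight hX hY (Or.inr rfl) heq (fun r hr ho => hcr r hr (Or.inr (Or.inr ho))) ⟨fun h => ?_,
          fun e' he1 he2 h => ?_⟩
        · have h := mul_dvd_cases hf 1 6 e3 h
          revert h; decide
        · have h := mul_dvd_cases hf 1 6 e3 h
          have he3 : e' ≤ 2 := he2
          revert h
          interval_cases e' <;> decide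
      · exfalso
        have e3 : 1 * e = 3 * f := by
          have : e * 6 = f * 18 := hD
          omega
        refine kill_eight hX hY (Or.inr rfl) heq (fun r hr ho => hcr r hr (Or.inr (Or.inr ho))) ⟨fun h => ?_,
          fun e' he1 he2 h => ?_⟩
        · have h := mul_dvd_cases hf 1 3 e3 h
          revert h; decide
        · have h := mul_dvd_cases hf 1 3 e3 h
          have he3 : e' ≤ 4 := he2
          revert h
          interval_cases e' <;> decide
      · exfalso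
        have e3 : 1 * e = 3 * f := by
          have : e * 6 = f * 18 := hD
          omega
        refine kill_eight hX hY (Or.inr rfl) heq (fun r hr ho => hcr r hr (Or.inr (Or.inr ho))) ⟨fun h => ?_,
          fun e' he1 he2 h => ?_⟩
        · have h := mul_dvd_cases hf 1 3 e3 h
          revert h; decide
        · have h := mul_dvd_cases hf 1 3 e3 h
          have he3 : e' ≤ 4 := he2
          revert h
          interval_cases e' <;> decide
      · exfalso
        have e3 : 2 * e = 3 * f := by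
          have : e * 12 = f * 18 := hD
          omega
        refine kill_eight hX hY (Or.inr rfl) heq (fun r hr ho => hcr r hr (Or.inr (Or.inr ho))) ⟨fun h => ?_,
          fun e' he1 he2 h => ?_⟩
        · have h := mul_dvd_cases hf 2 3 e3 h
          revert h; decide
        · have h := mul_dvd_cases hf 2 3 e3 h
          have he3 : e' ≤ 8 := he2
          revert h
          interval_cases e' <;> decide
  · -- one large exponent: `G₂`, `³D₄`
    have hBX := typB_of hX hY heq hD hB hE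
    have hT := typB hX hBX
    have hc73 : c < 73 ∧ s = 0 := by
      cases hE with
      | G2 =>
        refine ⟨?_, ?_⟩
        · rcases hc with h | ⟨h, -⟩
          · exact h
          · exact absurd rfl h
        · rcases hs' with ⟨h, -⟩ | ⟨h, -⟩ | ⟨h, -⟩ | h
          · cases h
          · cases h
          · cases h
          · exact h
      | TD4 =>
        refine ⟨?_, ?_⟩
        · rcases hc with h | ⟨-, h, -⟩
          · exact h
          · exact absurd rfl h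
        · rcases hs' with ⟨h, -⟩ | ⟨h, -⟩ | ⟨h, -⟩ | h
          · cases h
          · cases h
          · cases h
          · exact h
      | F4 => exact absurd (by decide) hB
      | E6 => exact absurd (by decide) hB
      | E7 => exact absurd (by decide) hB
      | E8 => exact absurd (by decide) hB
      | TE6 => exact absurd (by decide) hB
    obtain ⟨hc73, hs0⟩ := hc73
    rw [hs0, add_zero] at hk
    have hY2 : Y = .G2 ∨ Y = .TD4 := by
      cases hE with
      | G2 => exact Or.inl rfl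
      | TD4 => exact Or.inr rfl
      | F4 => exact absurd (by decide) hB
      | E6 => exact absurd (by decide) hB
      | E7 => exact absurd (by decide) hB
      | E8 => exact absurd (by decide) hB
      | TE6 => exact absurd (by decide) hB
    have hk4 : kap X = 4 := by rcases hY2 with rfl | rfl <;> exact hk
    have hX4 : X = .C 2 ∨ X = .G2 ∨ X = .TD4 ∨ X = .TF4 := by
      clear hcross hdX fin hcr hc hcp hD hk hs hBX
      generalize DM X = D at *
      generalize kap X = k at *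
      cases hT with
      | C2 => exact Or.inl rfl
      | G2 => exact Or.inr (Or.inl rfl)
      | TD4 => exact Or.inr (Or.inr (Or.inl rfl))
      | TF4 => exact Or.inr (Or.inr (Or.inr rfl))
      | _ => exfalso; omega
    have hC2 := num_C2
    have hdC2 : ∀ Q : ℕ, dd (.C 2) Q ≤ 2 := fun Q => Nat.gcd_le_left _ (by norm_num)
    rcases hY2 with rfl | rfl
    · have h6 : dd .G2 (p ^ f) = 1 := rfl
      rw [h6, one_mul] at hcross
      have hq3 : 3 ≤ p ^ f := hY.ok
      rcases hX4 with rfl | rfl | rfl | rfl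
      · exfalso
        have e3 : 2 * e = 3 * f := by
          have : e * 4 = f * 6 := hD
          omega
        refine G2_C2 hq3 hc1 (hdC2 (p ^ e)) ?_
        rw [hC2] at hcross
        have h7 : (p ^ e) ^ 2 = (p ^ f) ^ 3 := by rw [← pow_mul, ← pow_mul]; congr 1; omega
        have h8 : (p ^ e) ^ 4 = (p ^ f) ^ 6 := by rw [← pow_mul, ← pow_mul, show e * 4 = f * 6 from hD]
        rw [h7, h8] at hcross
        exact hcross
      · exact fin rfl
      · exfalso
        have e3 : f = 2 * e := by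
          have : e * 12 = f * 6 := hD
          omega
        have h7 : p ^ f = (p ^ e) ^ 2 := by rw [e3, ← pow_mul, mul_comm]
        refine G2_TD4 (c := c) hX.q_ge ?_
        rw [h7] at hcross
        have h8 : dd .TD4 (p ^ e) = 1 := rfl
        rw [h8, one_mul] at hcross
        have h9 := num_G2 (p ^ e)
        rw [h9] at hcross
        exact hcross
      · exfalso
        have e3 : f = 2 * e := by
          have : e * 12 = f * 6 := hD
          omega
        obtain ⟨hp2, -, he3⟩ : p = 2 ∧ Odd e ∧ 3 ≤ e := hX.ok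
        have h7 : p ^ f = (p ^ e) ^ 2 := by rw [e3, ← pow_mul, mul_comm]
        have h10 : 8 ≤ p ^ e := by
          rw [hp2]
          exact (show 8 = 2 ^ 3 by norm_num) ▸ Nat.pow_le_pow_right (by norm_num) he3
        refine G2_TF4 (c := c) h10 hc73 ?_
        rw [h7] at hcross
        have h8 : dd .TF4 (p ^ e) = 1 := rfl
        rw [h8, one_mul] at hcross
        have h9 := num_G2 (p ^ e)
        rw [h9] at hcross
        exact hcross
    · have h6 : dd .TD4 (p ^ f) = 1 := rfl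
      rw [h6, one_mul] at hcross
      rcases hX4 with rfl | rfl | rfl | rfl
      · exfalso
        have e3 : e = 3 * f := by
          have : e * 4 = f * 12 := hD
          omega
        refine TD4_C2 hq hc1 (hdC2 (p ^ e)) ?_
        rw [hC2] at hcross
        have h7 : (p ^ e) ^ 2 = (p ^ f) ^ 6 := by rw [← pow_mul, ← pow_mul]; congr 1; rw [e3]; ring
        have h8 : (p ^ e) ^ 4 = (p ^ f) ^ 12 := by rw [← pow_mul, ← pow_mul, show e * 4 = f * 12 from hD]
        rw [h7, h8] at hcross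
        exact hcross
      · exfalso
        have e3 : e = 2 * f := by
          have : e * 6 = f * 12 := hD
          omega
        have h7 : p ^ e = (p ^ f) ^ 2 := by rw [e3, ← pow_mul]; congr 1; ring
        refine TD4_G2 hq hc1 ?_
        have h8 : dd .G2 (p ^ e) = 1 := rfl
        rw [h8, one_mul, h7] at hcross
        have h9 := num_G2 (p ^ f)
        rw [h9] at hcross
        exact hcross
      · exact fin rfl
      · exfalso
        have e3 : e = f := by
          have : e * 12 = f * 12 := hD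
          omega
        subst e3
        have h8 : dd .TF4 (p ^ e) = 1 := rfl
        rw [h8, one_mul] at hcross
        exact TD4_TF4 (c := c) hq hcross

end main

end Cfsg.Agent.H962.IdSame
end
end

-- part: H992/TC/Cross
section
prune_inst 0x10000000000000000000000000000000000000008000014002000200000000000000000000001004800000400000000000000000000000000000000000000002800080080200280000002001580c00000000000000000000000000000000000000000
set_option linter.all false
open scoped Cfsg.Agent.FastGrp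

/-!
# Cross characteristic

No simple group of Lie type in characteristic `t ≠ p` has nearly the order of `F₄(q)`, `E₆(q)`, `²E₆(q)`, `q ≥ 4` a power
of `p`.
-/

set_option autoImplicit false

namespace Cfsg.Agent.H992.TC

open Cfsg.Agent.H902 Cfsg.Agent.H902.Art

theorem pow_lower {q : ℕ} (hq : 4 ≤ q) (k : ℕ) (hk : 2 ≤ k) : 15 * q ^ k ≤ 16 * (q ^ k - 1) := by
  have h1 : 4 ^ 2 ≤ q ^ k := (Nat.pow_le_pow_left hq 2).trans (Nat.pow_le_pow_right (by omega) hk)
  omega

theorem pow_lower' {q : ℕ} (k : ℕ) : 15 * q ^ k ≤ 16 * (q ^ k + 1) := by omega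

/-- `q ^ 28 ≤ 2 num` for `F₄` -/
theorem num_F4_ge {q : ℕ} (hq : 4 ≤ q) : q ^ 28 ≤ 2 * num .F4 q := by
  have h := Nat.mul_le_mul (Nat.mul_le_mul (Nat.mul_le_mul (pow_lower hq 2 (by norm_num))
    (pow_lower hq 6 (by norm_num))) (pow_lower hq 8 (by norm_num))) (pow_lower hq 12 (by norm_num))
  have e1 : 15 * q ^ 2 * (15 * q ^ 6) * (15 * q ^ 8) * (15 * q ^ 12) = 50625 * q ^ 28 := by ring
  have e2 : 16 * (q ^ 2 - 1) * (16 * (q ^ 6 - 1)) * (16 * (q ^ 8 - 1)) * (16 * (q ^ 12 - 1)) = 65536 * num .F4 q := by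
    show _ = 65536 * ((q ^ 2 - 1) * (q ^ 6 - 1) * (q ^ 8 - 1) * (q ^ 12 - 1))
    ring
  rw [e1, e2] at h
  omega

theorem num_E_ge {Y : Sh} (hY : Y = .E6 ∨ Y = .TE6) {q : ℕ} (hq : 4 ≤ q) : q ^ 42 ≤ 2 * num Y q := by
  rcases hY with rfl | rfl
  · have h := Nat.mul_le_mul (Nat.mul_le_mul (Nat.mul_le_mul (Nat.mul_le_mul (Nat.mul_le_mul
      (pow_lower hq 2 (by norm_num)) (pow_lower hq 5 (by norm_num))) (pow_lower hq 6 (by norm_num)))
      (pow_lower hq 8 (by norm_num))) (pow_lower hq 9 (by norm_num))) (pow_lower hq 12 (by norm_num))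
    have e1 : 15 * q ^ 2 * (15 * q ^ 5) * (15 * q ^ 6) * (15 * q ^ 8) * (15 * q ^ 9) * (15 * q ^ 12) =
      11390625 * q ^ 42 := by ring
    have e2 : 16 * (q ^ 2 - 1) * (16 * (q ^ 5 - 1)) * (16 * (q ^ 6 - 1)) * (16 * (q ^ 8 - 1)) * (16 * (q ^ 9 - 1)) *
      (16 * (q ^ 12 - 1)) = 16777216 * num .E6 q := by
      show _ = 16777216 * ((q ^ 2 - 1) * (q ^ 5 - 1) * (q ^ 6 - 1) * (q ^ 8 - 1) * (q ^ 9 - 1) * (q ^ 12 - 1))
      ring
    rw [e1, e2] at h
    omega
  · have h := Nat.mul_le_mul (Nat.mul_le_mul (Nat.mul_le_mul (Nat.mul_le_mul (Nat.mul_le_mul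
      (pow_lower hq 2 (by norm_num)) (pow_lower' (q := q) 5)) (pow_lower hq 6 (by norm_num)))
      (pow_lower hq 8 (by norm_num))) (pow_lower' (q := q) 9)) (pow_lower hq 12 (by norm_num))
    have e1 : 15 * q ^ 2 * (15 * q ^ 5) * (15 * q ^ 6) * (15 * q ^ 8) * (15 * q ^ 9) * (15 * q ^ 12) =
      11390625 * q ^ 42 := by ring
    have e2 : 16 * (q ^ 2 - 1) * (16 * (q ^ 5 + 1)) * (16 * (q ^ 6 - 1)) * (16 * (q ^ 8 - 1)) * (16 * (q ^ 9 + 1)) *
      (16 * (q ^ 12 - 1)) = 16777216 * num .TE6 q := by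
      show _ = 16777216 * ((q ^ 2 - 1) * (q ^ 5 + 1) * (q ^ 6 - 1) * (q ^ 8 - 1) * (q ^ 9 + 1) * (q ^ 12 - 1))
      ring
    rw [e1, e2] at h
    omega

theorem sq_le_two_pow {n : ℕ} (hn : 4 ≤ n) : n ^ 2 ≤ 2 ^ n := by
  induction n, hn using Nat.le_induction with
  | base => norm_num
  | succ n hn ih =>
    rw [pow_succ 2 n]
    nlinarith

/-- the bound for `c` -/
theorem c_le {q A c : ℕ} (hq : 4 ≤ q) (hA : A ≤ 128 * (q + 1) ^ 9) (hc : 2 ^ c ≤ A ^ 48) : c ≤ 354 * q := by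
  have h1 : (q + 1) ^ 2 ≤ 2 ^ (q + 1) := sq_le_two_pow (by omega)
  have h2 : A ^ 48 ≤ 2 ^ (552 + 216 * q) := by
    calc A ^ 48 ≤ (128 * (q + 1) ^ 9) ^ 48 := Nat.pow_le_pow_left hA 48
      _ = 2 ^ 336 * ((q + 1) ^ 2) ^ 216 := by
        rw [show (128 : ℕ) = 2 ^ 7 by norm_num, mul_pow, ← pow_mul, ← pow_mul, ← pow_mul]
      _ ≤ 2 ^ 336 * (2 ^ (q + 1)) ^ 216 := Nat.mul_le_mul_left _ (Nat.pow_le_pow_left h1 216)
      _ = 2 ^ (552 + 216 * q) := by
        rw [← pow_mul, ← pow_add]; congr 1; ring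
  have h3 := (Nat.pow_le_pow_iff_right (by norm_num : 1 < 2)).1 (hc.trans h2)
  omega

/-- the sizes in `F₄` -/
theorem cross_F4 {q A c : ℕ} (hq : 4 ≤ q) (h : (A ≤ 128 * (q + 1) ^ 4 ∧ 5 ≤ q) ∨ A ≤ 9 * (q + 1) ^ 4 ∨
    A ≤ 3 * (q ^ 2 + 1) ^ 2 ∨ A ≤ (q ^ 3 + 1) ^ 2) (hc : c ≤ 354 * q) (hn : num .F4 q ≤ A ^ 3 * c) : False := by
  have h28 := num_F4_ge hq
  have h0 : q ^ 28 ≤ 708 * (A ^ 3 * q) := by
    calc q ^ 28 ≤ 2 * num .F4 q := h28
      _ ≤ 2 * (A ^ 3 * (354 * q)) := Nat.mul_le_mul_left _ (hn.trans (Nat.mul_le_mul_left _ hc))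
      _ = _ := by ring
  rcases h with ⟨h, hq5⟩ | h | h | h
  · have h1 : (5 * (q + 1)) ^ 12 ≤ (6 * q) ^ 12 := Nat.pow_le_pow_left (by omega) 12
    rw [mul_pow, mul_pow] at h1
    have h2 : A ^ 3 ≤ 2097152 * (q + 1) ^ 12 := (Nat.pow_le_pow_left h 3).trans (le_of_eq (by ring))
    have h3 : 5 ^ 15 ≤ q ^ 15 := Nat.pow_le_pow_left hq5 15
    have h4 : 5 ^ 15 * q ^ 13 ≤ q ^ 28 := by
      calc 5 ^ 15 * q ^ 13 ≤ q ^ 15 * q ^ 13 := Nat.mul_le_mul_right _ h3
        _ = _ := by ring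
    have h5 : 5 ^ 12 * ((q + 1) ^ 12 * q) ≤ 6 ^ 12 * q ^ 13 := by
      calc 5 ^ 12 * ((q + 1) ^ 12 * q) = (5 ^ 12 * (q + 1) ^ 12) * q := by ring
        _ ≤ (6 ^ 12 * q ^ 12) * q := Nat.mul_le_mul_right _ h1
        _ = _ := by ring
    have h6 : A ^ 3 * q ≤ 2097152 * ((q + 1) ^ 12 * q) := by
      calc A ^ 3 * q ≤ (2097152 * (q + 1) ^ 12) * q := Nat.mul_le_mul_right _ h2
        _ = _ := by ring
    have h7 : 0 < q ^ 13 := pow_pos (by omega) _
    norm_num only [] at h4 h5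
    omega
  · have h1 : (4 * (q + 1)) ^ 12 ≤ (5 * q) ^ 12 := Nat.pow_le_pow_left (by omega) 12
    rw [mul_pow, mul_pow] at h1
    have h2 : A ^ 3 ≤ 729 * (q + 1) ^ 12 := (Nat.pow_le_pow_left h 3).trans (le_of_eq (by ring))
    have h3 : 4 ^ 15 ≤ q ^ 15 := Nat.pow_le_pow_left hq 15
    have h4 : 4 ^ 15 * q ^ 13 ≤ q ^ 28 := by
      calc 4 ^ 15 * q ^ 13 ≤ q ^ 15 * q ^ 13 := Nat.mul_le_mul_right _ h3
        _ = _ := by ring
    have h5 : 4 ^ 12 * ((q + 1) ^ 12 * q) ≤ 5 ^ 12 * q ^ 13 := by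
      calc 4 ^ 12 * ((q + 1) ^ 12 * q) = (4 ^ 12 * (q + 1) ^ 12) * q := by ring
        _ ≤ (5 ^ 12 * q ^ 12) * q := Nat.mul_le_mul_right _ h1
        _ = _ := by ring
    have h6 : A ^ 3 * q ≤ 729 * ((q + 1) ^ 12 * q) := by
      calc A ^ 3 * q ≤ (729 * (q + 1) ^ 12) * q := Nat.mul_le_mul_right _ h2
        _ = _ := by ring
    have h7 : 0 < q ^ 13 := pow_pos (by omega) _
    norm_num only [] at h4 h5
    omega
  · have h1 : (q ^ 2 + 1) ^ 6 ≤ (2 * q ^ 2) ^ 6 := Nat.pow_le_pow_left (by nlinarith only [hq]) 6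
    have h2 : A ^ 3 ≤ 27 * (q ^ 2 + 1) ^ 6 := (Nat.pow_le_pow_left h 3).trans (le_of_eq (by ring))
    have h3 : 4 ^ 15 ≤ q ^ 15 := Nat.pow_le_pow_left hq 15
    have h4 : 4 ^ 15 * q ^ 13 ≤ q ^ 28 := by
      calc 4 ^ 15 * q ^ 13 ≤ q ^ 15 * q ^ 13 := Nat.mul_le_mul_right _ h3
        _ = _ := by ring
    have h6 : A ^ 3 * q ≤ 1728 * q ^ 13 := by
      calc A ^ 3 * q ≤ (27 * (2 * q ^ 2) ^ 6) * q := Nat.mul_le_mul_right _ (h2.trans (Nat.mul_le_mul_left _ h1))
        _ = _ := by ring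
    have h7 : 0 < q ^ 13 := pow_pos (by omega) _
    norm_num at h4
    omega
  · have h0' : 1 ≤ q ^ 3 := Nat.one_le_pow _ _ (by omega)
    have h1 : (q ^ 3 + 1) ^ 6 ≤ (2 * q ^ 3) ^ 6 := Nat.pow_le_pow_left (by omega) 6
    have h2 : A ^ 3 ≤ (q ^ 3 + 1) ^ 6 := (Nat.pow_le_pow_left h 3).trans (le_of_eq (by ring))
    have h3 : 4 ^ 9 ≤ q ^ 9 := Nat.pow_le_pow_left hq 9
    have h4 : 4 ^ 9 * q ^ 19 ≤ q ^ 28 := by
      calc 4 ^ 9 * q ^ 19 ≤ q ^ 9 * q ^ 19 := Nat.mul_le_mul_right _ h3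
        _ = _ := by ring
    have h6 : A ^ 3 * q ≤ 64 * q ^ 19 := by
      calc A ^ 3 * q ≤ ((2 * q ^ 3) ^ 6) * q := Nat.mul_le_mul_right _ (h2.trans h1)
        _ = _ := by ring
    have h7 : 0 < q ^ 19 := pow_pos (by omega) _
    norm_num at h4
    omega

/-- the sizes in `E₆`, `²E₆` -/
theorem cross_E {Y : Sh} (hY : Y = .E6 ∨ Y = .TE6) {q A c : ℕ} (hq : 4 ≤ q)
    (h : (A ≤ 128 * (q + 1) ^ 6 ∧ 5 ≤ q) ∨ A ≤ 81 * (q + 1) ^ 6 ∨ A ≤ 3 * (q ^ 3 + 1) ^ 3 ∨ A ≤ q ^ 9 + 1)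
    (hc : c ≤ 354 * q) (hn : num Y q ≤ 3 * (A ^ 3 * c)) : False := by
  have h28 := num_E_ge hY hq
  have h0 : q ^ 42 ≤ 2124 * (A ^ 3 * q) := by
    calc q ^ 42 ≤ 2 * num Y q := h28
      _ ≤ 2 * (3 * (A ^ 3 * (354 * q))) :=
        Nat.mul_le_mul_left _ (hn.trans (Nat.mul_le_mul_left _ (Nat.mul_le_mul_left _ hc)))
      _ = _ := by ring
  rcases h with ⟨h, hq5⟩ | h | h | h
  · have h1 : (5 * (q + 1)) ^ 18 ≤ (6 * q) ^ 18 := Nat.pow_le_pow_left (by omega) 18
    rw [mul_pow, mul_pow] at h1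
    have h2 : A ^ 3 ≤ 2097152 * (q + 1) ^ 18 := (Nat.pow_le_pow_left h 3).trans (le_of_eq (by ring))
    have h3 : 5 ^ 23 ≤ q ^ 23 := Nat.pow_le_pow_left hq5 23
    have h4 : 5 ^ 23 * q ^ 19 ≤ q ^ 42 := by
      calc 5 ^ 23 * q ^ 19 ≤ q ^ 23 * q ^ 19 := Nat.mul_le_mul_right _ h3
        _ = _ := by ring
    have h5 : 5 ^ 18 * ((q + 1) ^ 18 * q) ≤ 6 ^ 18 * q ^ 19 := by
      calc 5 ^ 18 * ((q + 1) ^ 18 * q) = (5 ^ 18 * (q + 1) ^ 18) * q := by ring
        _ ≤ (6 ^ 18 * q ^ 18) * q := Nat.mul_le_mul_right _ h1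
        _ = _ := by ring
    have h6 : A ^ 3 * q ≤ 2097152 * ((q + 1) ^ 18 * q) := by
      calc A ^ 3 * q ≤ (2097152 * (q + 1) ^ 18) * q := Nat.mul_le_mul_right _ h2
        _ = _ := by ring
    have h7 : 0 < q ^ 19 := pow_pos (by omega) _
    norm_num only [] at h4 h5
    omega
  · have h1 : (4 * (q + 1)) ^ 18 ≤ (5 * q) ^ 18 := Nat.pow_le_pow_left (by omega) 18
    rw [mul_pow, mul_pow] at h1
    have h2 : A ^ 3 ≤ 531441 * (q + 1) ^ 18 := (Nat.pow_le_pow_left h 3).trans (le_of_eq (by ring))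
    have h3 : 4 ^ 23 ≤ q ^ 23 := Nat.pow_le_pow_left hq 23
    have h4 : 4 ^ 23 * q ^ 19 ≤ q ^ 42 := by
      calc 4 ^ 23 * q ^ 19 ≤ q ^ 23 * q ^ 19 := Nat.mul_le_mul_right _ h3
        _ = _ := by ring
    have h5 : 4 ^ 18 * ((q + 1) ^ 18 * q) ≤ 5 ^ 18 * q ^ 19 := by
      calc 4 ^ 18 * ((q + 1) ^ 18 * q) = (4 ^ 18 * (q + 1) ^ 18) * q := by ring
        _ ≤ (5 ^ 18 * q ^ 18) * q := Nat.mul_le_mul_right _ h1
        _ = _ := by ring
    have h6 : A ^ 3 * q ≤ 531441 * ((q + 1) ^ 18 * q) := by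
      calc A ^ 3 * q ≤ (531441 * (q + 1) ^ 18) * q := Nat.mul_le_mul_right _ h2
        _ = _ := by ring
    have h7 : 0 < q ^ 19 := pow_pos (by omega) _
    norm_num only [] at h4 h5
    omega
  · have h0' : 1 ≤ q ^ 3 := Nat.one_le_pow _ _ (by omega)
    have h1 : (q ^ 3 + 1) ^ 9 ≤ (2 * q ^ 3) ^ 9 := Nat.pow_le_pow_left (by omega) 9
    have h2 : A ^ 3 ≤ 27 * (q ^ 3 + 1) ^ 9 := (Nat.pow_le_pow_left h 3).trans (le_of_eq (by ring))
    have h3 : 4 ^ 14 ≤ q ^ 14 := Nat.pow_le_pow_left hq 14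
    have h4 : 4 ^ 14 * q ^ 28 ≤ q ^ 42 := by
      calc 4 ^ 14 * q ^ 28 ≤ q ^ 14 * q ^ 28 := Nat.mul_le_mul_right _ h3
        _ = _ := by ring
    have h6 : A ^ 3 * q ≤ 13824 * q ^ 28 := by
      calc A ^ 3 * q ≤ (27 * (2 * q ^ 3) ^ 9) * q := Nat.mul_le_mul_right _ (h2.trans (Nat.mul_le_mul_left _ h1))
        _ = _ := by ring
    have h7 : 0 < q ^ 28 := pow_pos (by omega) _
    norm_num at h4
    omega
  · have h0' : 1 ≤ q ^ 9 := Nat.one_le_pow _ _ (by omega)
    have h2 : A ^ 3 ≤ (2 * q ^ 9) ^ 3 := Nat.pow_le_pow_left (by omega) 3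
    have h3 : 4 ^ 14 ≤ q ^ 14 := Nat.pow_le_pow_left hq 14
    have h4 : 4 ^ 14 * q ^ 28 ≤ q ^ 42 := by
      calc 4 ^ 14 * q ^ 28 ≤ q ^ 14 * q ^ 28 := Nat.mul_le_mul_right _ h3
        _ = _ := by ring
    have h6 : A ^ 3 * q ≤ 8 * q ^ 28 := by
      calc A ^ 3 * q ≤ ((2 * q ^ 9) ^ 3) * q := Nat.mul_le_mul_right _ h2
        _ = _ := by ring
    have h7 : 0 < q ^ 28 := pow_pos (by omega) _
    norm_num at h4
    omega

/-- `num ≤ dd N c` -/
theorem num_le {Y : Sh} {p f M N c a : ℕ} (h : Art.Real Y p f M) (e : N * c * p ^ a = M) :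
    num Y (p ^ f) ≤ dd Y (p ^ f) * (N * c) := by
  have hM := h.M_ne
  have hp := h.hp
  have h1 : p ^ a ≤ P p M := by
    apply Nat.pow_le_pow_right hp.pos
    exact (hp.pow_dvd_iff_le_factorization hM).1 (e ▸ Dvd.intro_left _ rfl)
  rw [h.P_self] at h1
  have h2 : 0 < (p ^ f) ^ NN Y := pow_pos (pow_pos hp.pos _) _
  apply Nat.le_of_mul_le_mul_left _ h2
  rw [← h.eq, ← e]
  calc dd Y (p ^ f) * (N * c * p ^ a) = (dd Y (p ^ f) * (N * c)) * p ^ a := by ring
    _ ≤ (dd Y (p ^ f) * (N * c)) * (p ^ f) ^ NN Y := Nat.mul_le_mul_left _ h1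
    _ = _ := by ring

/-- **Cross characteristic.** -/
theorem cross_false {Y : Sh} (hY : Y3 Y) {p f M : ℕ} (h : Art.Real Y p f M) (hq4 : 4 ≤ p ^ f) {X : Sh} {t g N : ℕ}
    (hS : Art.Real X t g N) (htp : t ≠ p) {c a : ℕ} (hc : 2 ^ c ≤ P t N ^ 48) (e : N * c * p ^ a = M) : False := by
  have hM := h.M_ne
  have hq := h.q_ge
  have ht := hS.hp
  have hNM : N ∣ M := by rw [← e, mul_assoc]; exact Dvd.intro _ rfl
  have hA : P t N ≤ P t (num Y (p ^ f)) := (P_mono ht hM hNM).trans (h.P_other_le ht htp)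
  have hN3 := hS.lt_cube
  have hn := num_le h e
  have hodd : t = 2 → Odd (p ^ f) := fun h2 => (h.hp.odd_of_ne_two (by omega)).pow
  have htq : ¬ t ∣ p ^ f := h.not_dvd_q ht htp
  have hq5 : t = 2 → 5 ≤ p ^ f := fun h2 => by
    obtain ⟨k, hk⟩ := hodd h2
    omega
  set q := p ^ f with hqdef
  clear_value q
  set A := P t N with hAdef
  clear_value A
  have hle : N * c ≤ A ^ 3 * c := Nat.mul_le_mul_right _ hN3.le
  have hq1 : ∀ k, 1 ≤ q ^ k := fun k => Nat.one_le_pow _ _ (by omega)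
  rcases hY with rfl | hE
  · -- F4
    have hn' : num .F4 q ≤ A ^ 3 * c := by
      refine hn.trans ?_
      show 1 * (N * c) ≤ _
      rw [one_mul]; exact hle
    have hB : (A ≤ 128 * (q + 1) ^ 4 ∧ 5 ≤ q) ∨ A ≤ 9 * (q + 1) ^ 4 ∨ A ≤ 3 * (q ^ 2 + 1) ^ 2 ∨
        A ≤ (q ^ 3 + 1) ^ 2 := by
      by_cases h2 : t = 2
      · left
        subst h2
        exact ⟨hA.trans (P_numF_two (by omega) (hodd rfl)), hq5 rfl⟩
      · right
        rcases P_numF_le ht h2 hq htq with h1 | h1 | h1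
        · exact Or.inl (hA.trans h1)
        · exact Or.inr (Or.inl (hA.trans h1))
        · exact Or.inr (Or.inr (hA.trans h1))
    have hA9 : A ≤ 128 * (q + 1) ^ 9 := by
      have h49 : (q + 1) ^ 4 ≤ (q + 1) ^ 9 := Nat.pow_le_pow_right (by omega) (by norm_num)
      have h69 : (q + 1) ^ 6 ≤ (q + 1) ^ 9 := Nat.pow_le_pow_right (by omega) (by norm_num)
      have h2 : (q ^ 2 + 1) ^ 2 ≤ (q + 1) ^ 4 := by
        calc (q ^ 2 + 1) ^ 2 ≤ ((q + 1) ^ 2) ^ 2 := Nat.pow_le_pow_left (by linarith only [hq4]) 2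
          _ = _ := by ring
      have h3 : (q ^ 3 + 1) ^ 2 ≤ (q + 1) ^ 6 := by
        calc (q ^ 3 + 1) ^ 2 ≤ ((q + 1) ^ 3) ^ 2 := Nat.pow_le_pow_left (by linarith only [hq4, _root_.sq_nonneg (↑q : ℤ)]) 2
          _ = _ := by ring
      rcases hB with ⟨h1, -⟩ | h1 | h1 | h1 <;> omega
    exact cross_F4 hq4 hB (c_le hq4 hA9 hc) hn'
  · have hn' : num Y q ≤ 3 * (A ^ 3 * c) := by
      refine hn.trans (Nat.mul_le_mul ?_ hle)
      rcases hE with rfl | rfl <;> exact Nat.gcd_le_left _ (by norm_num)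
    have hx : ∃ x : ℤ, (x = q ∨ x = -q) ∧ numX x = num Y q := by
      rcases hE with rfl | rfl
      · exact ⟨q, Or.inl rfl, numX_pos hq⟩
      · exact ⟨-q, Or.inr rfl, numX_neg hq⟩
    obtain ⟨x, hx, hxn⟩ := hx
    rw [← hxn] at hA
    have hB : (A ≤ 128 * (q + 1) ^ 6 ∧ 5 ≤ q) ∨ A ≤ 81 * (q + 1) ^ 6 ∨ A ≤ 3 * (q ^ 3 + 1) ^ 3 ∨ A ≤ q ^ 9 + 1 := by
      by_cases h2 : t = 2
      · left
        subst h2
        exact ⟨hA.trans (P_numX_two (by omega) (hodd rfl) hx), hq5 rfl⟩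
      · right
        rcases P_numX_le ht h2 hq htq hx with h1 | h1 | h1
        · exact Or.inl (hA.trans h1)
        · exact Or.inr (Or.inl (hA.trans h1))
        · exact Or.inr (Or.inr (hA.trans h1))
    have hA9 : A ≤ 128 * (q + 1) ^ 9 := by
      have h69 : (q + 1) ^ 6 ≤ (q + 1) ^ 9 := Nat.pow_le_pow_right (by omega) (by norm_num)
      have h3 : (q ^ 3 + 1) ^ 3 ≤ (q + 1) ^ 9 := by
        calc (q ^ 3 + 1) ^ 3 ≤ ((q + 1) ^ 3) ^ 3 := Nat.pow_le_pow_left (by linarith only [hq4, _root_.sq_nonneg (↑q : ℤ)]) 3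
          _ = _ := by ring
      have h9 : q ^ 9 + 1 ≤ (q ^ 3 + 1) ^ 3 := by
        have : (q ^ 3 + 1) ^ 3 = q ^ 9 + 3 * q ^ 6 + 3 * q ^ 3 + 1 := by ring
        omega
      rcases hB with ⟨h1, -⟩ | h1 | h1 | h1 <;> omega
    exact cross_E hE hq4 hB (c_le hq4 hA9 hc) hn'

end Cfsg.Agent.H992.TC
end

-- part: H992/TC/Spor
section
prune_inst 0x1000000000000000000040001c4282000000000b8000010002000680040100000e20b01002001184802440784000000000090010000020000200411800800007e8820600a30038000000a801580c00000000000000000000000000000000000000000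
set_option linter.all false
open scoped Cfsg.Agent.FastGrp

/-!
# Sporadic groups and the orders of `F₄(q)`, `E₆(q)`, `²E₆(q)`
-/

set_option autoImplicit false

namespace Cfsg.Agent.H992.TC

open Cfsg.Agent.H902 Cfsg.Agent.H902.Art Cfsg.Agent.OrdDiv

theorem spor_le : ∀ x ∈ spor, x.2 ≤ 808017424794512875886459904961710757005754368000000000 := by decide +kernel

/-- the check -/
def sporChk (Y : Sh) (N B : ℕ) : Bool :=
  (List.range B).all fun q => Nat.blt q 2 || spor.all fun x =>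
    !(Nat.beq ((q ^ N * num Y q) % x.2) 0) || Nat.blt 540 (num Y q / Nat.gcd (num Y q) (dd Y q * x.2))

theorem sporChk_spec {Y : Sh} {N B : ℕ} (h : sporChk Y N B = true) {q : ℕ} (hq : q < B) (hq2 : 2 ≤ q)
    {x : Grp × ℕ} (hx : x ∈ spor) (hd : x.2 ∣ q ^ N * num Y q) {c : ℕ} (hc : c ≤ 540) (hc0 : c ≠ 0)
    (hn : num Y q ∣ dd Y q * (x.2 * c)) (hn0 : num Y q ≠ 0) : False := by
  have h1 := List.all_eq_true.1 h q (List.mem_range.2 hq)
  rw [Bool.or_eq_true] at h1
  rcases h1 with h1 | h1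
  · rw [Nat.blt_eq] at h1; omega
  have h2 := List.all_eq_true.1 h1 x hx
  rw [Bool.or_eq_true] at h2
  rcases h2 with h2 | h2
  · rw [Nat.mod_eq_zero_of_dvd hd] at h2
    exact absurd h2 (by decide)
  rw [Nat.blt_eq] at h2
  have h3 : num Y q ∣ (dd Y q * x.2) * c := by rwa [mul_assoc]
  set A := dd Y q * x.2
  have hg : 0 < Nat.gcd (num Y q) A := Nat.gcd_pos_of_pos_left _ (Nat.pos_of_ne_zero hn0)
  have h4 : num Y q / Nat.gcd (num Y q) A ∣ c := by
    have h5 : (num Y q / Nat.gcd (num Y q) A).Coprime (A / Nat.gcd (num Y q) A) :=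
      Nat.coprime_div_gcd_div_gcd hg
    apply h5.dvd_of_dvd_mul_left
    have h6 := Nat.div_dvd_div (Dvd.dvd.mul_right (Nat.gcd_dvd_right (num Y q) A) c |>.trans dvd_rfl |> fun _ =>
      Nat.gcd_dvd_left (num Y q) A) h3
    rwa [Nat.mul_comm A c, Nat.mul_div_assoc c (Nat.gcd_dvd_right (num Y q) A), mul_comm] at h6
  have := Nat.le_of_dvd (Nat.pos_of_ne_zero hc0) h4
  omega

theorem spor_F4 : sporChk .F4 24 120 = true := by decide +kernel

theorem spor_E6 : sporChk .E6 36 25 = true := by decide +kernel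

theorem spor_TE6 : sporChk .TE6 36 25 = true := by decide +kernel

theorem num_mono_F4 {q B : ℕ} (h : B ≤ q) : num .F4 B ≤ num .F4 q := by
  have h1 : ∀ k, B ^ k - 1 ≤ q ^ k - 1 := fun k => Nat.sub_le_sub_right (Nat.pow_le_pow_left h k) 1
  exact Nat.mul_le_mul (Nat.mul_le_mul (Nat.mul_le_mul (h1 _) (h1 _)) (h1 _)) (h1 _)

theorem num_mono_E6 {q B : ℕ} (h : B ≤ q) : num .E6 B ≤ num .E6 q := by
  have h1 : ∀ k, B ^ k - 1 ≤ q ^ k - 1 := fun k => Nat.sub_le_sub_right (Nat.pow_le_pow_left h k) 1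
  exact Nat.mul_le_mul (Nat.mul_le_mul (Nat.mul_le_mul (Nat.mul_le_mul (Nat.mul_le_mul (h1 _) (h1 _)) (h1 _))
    (h1 _)) (h1 _)) (h1 _)

theorem num_mono_TE6 {q B : ℕ} (h : B ≤ q) : num .TE6 B ≤ num .TE6 q := by
  have h1 : ∀ k, B ^ k - 1 ≤ q ^ k - 1 := fun k => Nat.sub_le_sub_right (Nat.pow_le_pow_left h k) 1
  have h2 : ∀ k, B ^ k + 1 ≤ q ^ k + 1 := fun k => Nat.add_le_add_right (Nat.pow_le_pow_left h k) 1
  exact Nat.mul_le_mul (Nat.mul_le_mul (Nat.mul_le_mul (Nat.mul_le_mul (Nat.mul_le_mul (h1 _) (h2 _)) (h1 _))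
    (h1 _)) (h2 _)) (h1 _)

theorem dd_le {Y : Sh} (hY : Y = .F4 ∨ Y = .E6 ∨ Y = .TE6) (q : ℕ) : dd Y q ≤ 3 := by
  rcases hY with rfl | rfl | rfl
  · show 1 ≤ 3; norm_num
  · exact Nat.gcd_le_left _ (by norm_num)
  · exact Nat.gcd_le_left _ (by norm_num)

/-- **No sporadic group**. -/
theorem spor_false' {Y : Sh} (hY : Y = .F4 ∨ Y = .E6 ∨ Y = .TE6) {p f M c a : ℕ} (h : Art.Real Y p f M)
    (hc : c ≤ 540) {x : Grp × ℕ} (hx : x ∈ spor) (e : x.2 * c * p ^ a = M) : False := by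
  have hM := h.M_ne
  have hq := h.q_ge
  have hx0 : x.2 ≠ 0 := by rintro h0; rw [h0] at e; simp at e; exact hM e.symm
  have hc0 : c ≠ 0 := by rintro rfl; simp at e; exact hM e.symm
  have h1 : x.2 ∣ (p ^ f) ^ NN Y * num Y (p ^ f) := by
    rw [← h.eq, ← e]
    exact ⟨dd Y (p ^ f) * (c * p ^ a), by ring⟩
  have h2 : num Y (p ^ f) ∣ dd Y (p ^ f) * (x.2 * c) := by
    have h3 : num Y (p ^ f) ∣ (dd Y (p ^ f) * (x.2 * c)) * p ^ a := by
      refine ⟨(p ^ f) ^ NN Y, ?_⟩
      rw [mul_comm (num Y (p ^ f)), ← h.eq, ← e]; ring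
    have h4 : (num Y (p ^ f)).Coprime (p ^ a) :=
      Nat.Coprime.pow_right _ ((Nat.Prime.coprime_iff_not_dvd h.hp).2 h.not_dvd_num).symm
    exact h4.dvd_of_dvd_mul_right h3
  have h3 : num Y (p ^ f) ≤ 1620 * 808017424794512875886459904961710757005754368000000000 := by
    refine (Nat.le_of_dvd (Nat.pos_of_ne_zero (mul_ne_zero h.dd_ne (mul_ne_zero hx0 hc0))) h2).trans ?_
    calc dd Y (p ^ f) * (x.2 * c) ≤ 3 * (808017424794512875886459904961710757005754368000000000 * 540) :=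
          Nat.mul_le_mul (dd_le hY _) (Nat.mul_le_mul (spor_le x hx) hc)
      _ = _ := by norm_num
  rcases hY with rfl | rfl | rfl
  · by_cases hB : p ^ f < 120
    · exact sporChk_spec spor_F4 hB hq hx h1 hc hc0 h2 h.num_ne
    · push Not at hB
      have h4 := (num_mono_F4 hB).trans h3
      revert h4
      decide +kernel
  · by_cases hB : p ^ f < 25
    · exact sporChk_spec spor_E6 hB hq hx h1 hc hc0 h2 h.num_ne
    · push Not at hB
      have h4 := (num_mono_E6 hB).trans h3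
      revert h4
      decide +kernel
  · by_cases hB : p ^ f < 25
    · exact sporChk_spec spor_TE6 hB hq hx h1 hc hc0 h2 h.num_ne
    · push Not at hB
      have h4 := (num_mono_TE6 hB).trans h3
      revert h4
      decide +kernel

theorem spor_false {Y : Sh} (hY : Y = .F4 ∨ Y = .E6 ∨ Y = .TE6) {p f M c a : ℕ} (h : Art.Real Y p f M)
    (hc : c ≤ 36) {x : Grp × ℕ} (hx : x ∈ spor) (e : x.2 * c * p ^ a = M) : False :=
  spor_false' hY h (by omega) hx e

end Cfsg.Agent.H992.TC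
end

-- part: H962/SameOut
section
prune_inst 0x10000000000000000000400000000000000000408000010002000200004000000800000000100004000000000040000000000000000000000000000000000002400006000300280000000000400000000000000000000000000000000000000000000
set_option linter.all false
open scoped Cfsg.Agent.FastGrp

/-!
# Identification in equal characteristic: the socle of an almost simple group of exceptional order (helper962)

* `same_gen` : `|N| * c * k = M`, `N` of type `X(p^g)`, `M = |Y(p^f)|`, `Y` exceptional, `c` divides `|Out N|` (in the form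
  of the data of `OutLie.card_out`), `p ∤ k`, `k` prime to some prime of order `f * DM Y`: then `X = Y`, `g = f` or
  `X = ²F₄`, `Y = G₂`, `f = 2 g`;
* `same_out0` : the same with `k = 1`: `X = Y`, `g = f`.
-/

set_option autoImplicit false

namespace Cfsg.Agent.H962.SameOut

open Cfsg.Agent.H902 Cfsg.Agent.H902.Art Cfsg.Agent.Lib.Zsigmondy Cfsg.Agent.H962.IdSame

variable {X Y : Sh} {p f g M N : ℕ}

/-- the data of an outer automorphism group -/
def OutC (X : Sh) (p g c : ℕ) : Prop := ∃ c', c ∣ c' * g ∧ c' ∣ 24 * dd X (p ^ g) ∧ (p = 2 → c' ∣ 6 * dd X (p ^ g))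

theorem exists_ppd {p n : ℕ} (hp : p.Prime) (hn : 3 ≤ n) (hex : ¬ (p = 2 ∧ n = 6)) :
    ∃ t : ℕ, t.Prime ∧ t ≠ p ∧ orderOf (p : ZMod t) = n := by
  obtain ⟨t, ht, ho⟩ := Cfsg.Agent.Lib.Zsigmondy.exists_prime_orderOf hp.two_le (by omega) (fun h => by omega) hex
  exact ⟨t, ht, ne_of_order ht (by omega) ho, ho⟩

theorem le_DM (hX : Real X p g N) (hY : Real Y p f M) (hdvd : N ∣ M) (h6 : 6 ≤ f * DM Y) :
    g * DM X ≤ f * DM Y := by
  by_cases h3 : 3 ≤ g * DM X
  · by_cases hex : p = 2 ∧ g * DM X = 6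
    · omega
    · obtain ⟨t, ht, htp, ho⟩ := exists_ppd hX.hp h3 hex
      have h1 : t ∣ N := hX.dvd_of_order_DM ht ho h3
      have hYl := BM_lt hY
      rcases hY.order_cases ht htp (h1.trans hdvd) with h2 | ⟨e, he1, he2, h2⟩
      · rw [ho] at h2
        exact Nat.le_of_dvd (by omega) h2
      · rw [ho] at h2
        have h4 := Nat.le_of_dvd (Nat.mul_pos (by have := hY.hf; omega) he1) h2
        exact h4.trans (Nat.mul_le_mul_left f (by omega))
  · omega

theorem dd_cases (hX : Real X p g N) {t : ℕ} (ht5 : 5 ≤ t) (h : t ∣ dd X (p ^ g)) :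
    (orderOf (p : ZMod t) ∣ g ∧ ∃ n, X = .L n) ∨ (orderOf (p : ZMod t) ∣ 2 * g ∧ ∃ n, X = .U n) := by
  have hl4 : ∀ {a : ℕ}, t ∣ Nat.gcd 4 a → False := fun {a} h => by
    have := Nat.le_of_dvd (by norm_num) (h.trans (Nat.gcd_dvd_left _ _)); omega
  have hl3 : ∀ {a : ℕ}, t ∣ Nat.gcd 3 a → False := fun {a} h => by
    have := Nat.le_of_dvd (by norm_num) (h.trans (Nat.gcd_dvd_left _ _)); omega
  have hl2 : ∀ {a : ℕ}, t ∣ Nat.gcd 2 a → False := fun {a} h => by
    have := Nat.le_of_dvd (by norm_num) (h.trans (Nat.gcd_dvd_left _ _)); omega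
  have hl1 : t ∣ 1 → False := fun h => by have := Nat.le_of_dvd (by norm_num) h; omega
  cases X with
  | L n =>
    left
    have h1 : t ∣ (p ^ g) ^ 1 - 1 := by rw [pow_one]; exact Nat.dvd_trans h (Nat.gcd_dvd_right _ _)
    exact ⟨by have := (dvd_iff hX.hp 1).1 h1; rwa [mul_one] at this, n, rfl⟩
  | U n =>
    right
    have h1 : t ∣ (p ^ g) ^ 1 + 1 := by rw [pow_one]; exact Nat.dvd_trans h (Nat.gcd_dvd_right _ _)
    exact ⟨by have := dvd_of_add hX.hp h1; rwa [mul_one, mul_comm] at this, n, rfl⟩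
  | C n => exact (hl2 h).elim
  | D n => exact (hl4 h).elim
  | DD n => exact (hl4 h).elim
  | G2 => exact (hl1 h).elim
  | F4 => exact (hl1 h).elim
  | E6 => exact (hl3 h).elim
  | E7 => exact (hl2 h).elim
  | E8 => exact (hl1 h).elim
  | TE6 => exact (hl3 h).elim
  | TD4 => exact (hl1 h).elim
  | Sz => exact (hl1 h).elim
  | Ree => exact (hl1 h).elim
  | TF4 => exact (hl1 h).elim

theorem OutC.prime (hX : Real X p g N) {c : ℕ} (hI : OutC X p g c) {t : ℕ} (ht : t.Prime) (ht5 : 5 ≤ t)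
    (h : t ∣ c) : t ∣ g ∨ (orderOf (p : ZMod t) ∣ g ∧ ∃ n, X = .L n) ∨ (orderOf (p : ZMod t) ∣ 2 * g ∧ ∃ n, X = .U n) := by
  obtain ⟨c', h1, h2, -⟩ := hI
  rcases ht.dvd_mul.1 (h.trans h1) with h3 | h3
  · rcases ht.dvd_mul.1 (h3.trans h2) with h4 | h4
    · exfalso
      have h5 : t ∣ 2 ^ 3 * 3 := h4
      rcases ht.dvd_mul.1 h5 with h6 | h6
      · have := Nat.le_of_dvd (by norm_num) (ht.dvd_of_dvd_pow h6); omega
      · have := Nat.le_of_dvd (by norm_num) h6; omega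
    · exact Or.inr (dd_cases hX ht5 h4)
  · exact Or.inl h3

theorem DM_ge_six (hE : IsExc Y) : 6 ≤ DM Y := by cases hE <;> decide

theorem not_six (hY : Real Y p f M) (hE : IsExc Y) : ¬ (p = 2 ∧ f * DM Y = 6) := by
  rintro ⟨rfl, h⟩
  have hf := hY.hf
  have hok := hY.ok
  cases hE with
  | G2 =>
    have h1 : f * 6 = 6 := h
    have h2 : f = 1 := by omega
    subst h2
    have h3 : 3 ≤ 2 ^ 1 := hok
    omega
  | F4 => have h1 : f * 12 = 6 := h; omega
  | E6 => have h1 : f * 12 = 6 := h; omega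
  | E7 => have h1 : f * 18 = 6 := h; omega
  | E8 => have h1 : f * 30 = 6 := h; omega
  | TE6 => have h1 : f * 18 = 6 := h; omega
  | TD4 => have h1 : f * 12 = 6 := h; omega

/-- the primes of the largest order do not divide `|Out|` -/
theorem not_dvd_c (hX : Real X p g N) (hY : Real Y p f M) (hE : IsExc Y) (hdvd : N ∣ M) {c : ℕ} (hI : OutC X p g c)
    {r : ℕ} (hr : r.Prime) (hro : orderOf (p : ZMod r) = f * DM Y) : ¬ r ∣ c := by
  intro hrc
  have hf := hY.hf
  have hg := hX.hf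
  have h6 : 6 ≤ f * DM Y := (DM_ge_six hE).trans (Nat.le_mul_of_pos_left _ hf)
  have hle := le_DM hX hY hdvd h6
  have hge := DM_ge hX
  have hDX : g * 2 ≤ g * DM X := Nat.mul_le_mul_left _ hge.1
  have hrf : Fact r.Prime := ⟨hr⟩
  have hrp : r ≠ p := ne_of_order hr (by omega) hro
  have hlt : f * DM Y < r := by
    rw [← hro]
    have hne : (p : ZMod r) ≠ 0 := by
      rw [Ne, ZMod.natCast_eq_zero_iff]
      intro h
      exact hrp ((Nat.prime_dvd_prime_iff_eq hr hX.hp).1 h)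
    have h1 := ZMod.orderOf_dvd_card_sub_one hne
    have h2 := Nat.le_of_dvd (by have := hr.two_le; omega) h1
    have := hr.two_le
    omega
  rcases hI.prime hX hr (by omega) hrc with h | ⟨h, -⟩ | ⟨h, n, rfl⟩
  · have := Nat.le_of_dvd (by omega) h
    omega
  · rw [hro] at h
    have := Nat.le_of_dvd (by omega) h
    omega
  · rw [hro] at h
    have h1 := Nat.le_of_dvd (by omega) h
    have h3 : g * 3 ≤ g * DM (.U n) := Nat.mul_le_mul_left _ (hge.2 ⟨n, rfl⟩)
    omega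

/-- **Identification.** -/
theorem same_gen (hX : Real X p g N) (hY : Real Y p f M) (hE : IsExc Y) {c k : ℕ}
    (heq : N * c * k = M) (hI : OutC X p g c) (hpk : ¬ p ∣ k)
    (hrk : ∀ r : ℕ, r.Prime → orderOf (p : ZMod r) = f * DM Y → ¬ r ∣ k) :
    (X = Y ∧ g = f) ∨ (X = .TF4 ∧ Y = .G2 ∧ f = 2 * g) := by
  have hf := hY.hf
  have hg := hX.hf
  have hp := hY.hp
  have hM := hY.M_ne
  have hN := hX.M_ne
  have hc0 : c ≠ 0 := by rintro rfl; apply hM; rw [← heq]; ring
  have hk0 : k ≠ 0 := by rintro rfl; apply hM; rw [← heq]; ring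
  have hdvd : N ∣ M := by rw [← heq, mul_assoc]; exact Dvd.intro _ rfl
  have h6 : 6 ≤ f * DM Y := (DM_ge_six hE).trans (Nat.le_mul_of_pos_left _ hf)
  obtain ⟨r, hr, hrp, hro⟩ := exists_ppd hp (by omega : 3 ≤ f * DM Y) (not_six hY hE)
  have hrM : r ∣ M := hY.dvd_of_order_DM hr hro (by omega)
  have hrN : r ∣ N := by
    rw [← heq] at hrM
    rcases hr.dvd_mul.1 hrM with h | h
    · exact (hr.dvd_mul.1 h).resolve_right (not_dvd_c hX hY hE hdvd hI hr hro)
    · exact absurd h (hrk r hr hro)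
  -- the defect
  have hfN : N.factorization p = g * NN X := by
    have h1 := hX.P_self
    rw [← pow_mul] at h1
    exact Nat.pow_right_injective hp.two_le h1
  have hfM : M.factorization p = f * NN Y := by
    have h1 := hY.P_self
    rw [← pow_mul] at h1
    exact Nat.pow_right_injective hp.two_le h1
  have hδ : f * NN Y - g * NN X = c.factorization p := by
    rw [← hfN, ← hfM, ← heq, Nat.factorization_mul (mul_ne_zero hN hc0) hk0, Finsupp.add_apply,
      Nat.factorization_eq_zero_of_not_dvd hpk, Nat.factorization_mul hN hc0, Finsupp.add_apply]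
    omega
  have hpd : p ^ c.factorization p ∣ c := Nat.ordProj_dvd _ _
  obtain ⟨c', h3, h4, h5⟩ := hI
  have hcop : Nat.Coprime (p ^ c.factorization p) (dd X (p ^ g)) :=
    Nat.Coprime.pow_left _ ((Nat.Prime.coprime_iff_not_dvd hp).2 hX.not_dvd_dd)
  have h24 : p ^ (f * NN Y - g * NN X) ∣ 24 * g := by
    rw [hδ]
    have h1 : p ^ c.factorization p ∣ dd X (p ^ g) * (24 * g) := by
      refine (hpd.trans h3).trans ?_
      rw [show dd X (p ^ g) * (24 * g) = (24 * dd X (p ^ g)) * g by ring]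
      exact Nat.mul_dvd_mul_right h4 g
    exact hcop.dvd_of_dvd_mul_left h1
  have h6' : p = 2 → 2 ^ (f * NN Y - g * NN X) ∣ 6 * g := by
    intro hp2
    rw [hδ]
    have h1 : p ^ c.factorization p ∣ dd X (p ^ g) * (6 * g) := by
      refine (hpd.trans h3).trans ?_
      rw [show dd X (p ^ g) * (6 * g) = (6 * dd X (p ^ g)) * g by ring]
      exact Nat.mul_dvd_mul_right (h5 hp2) g
    have h7 := hcop.dvd_of_dvd_mul_left h1
    rw [← hp2] at *
    exact h7
  rcases H365.Near.near_out hX hY hdvd hr hro (by omega) hrN h24 h6' with h | h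
  · exact Or.inl h
  · right
    unfold H365.Near.Exc at h
    rcases h with ⟨-, h, -⟩ | ⟨-, h, -⟩ | ⟨n, -, -, h, -⟩ | ⟨-, h, -⟩ | ⟨-, h, -⟩ | ⟨-, h, -⟩ | ⟨-, h, -⟩ |
      ⟨h1, h2, h3⟩
    all_goals first
      | (subst h; cases hE)
      | exact ⟨h1, h2, h3⟩

/-- `²F₄(q)` and `G₂(q²)` -/
theorem tf4_g2 {g M N c : ℕ} (hX : Real .TF4 p g N) (hY : Real .G2 p (2 * g) M) (heq : N * c = M) :
    c = (p ^ g) ^ 2 + p ^ g + 1 := by
  have hN := hX.M_ne
  have h1 := hX.eq
  have h2 := hY.eq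
  have hq := hX.q_ge
  have hpp : p ^ (2 * g) = (p ^ g) ^ 2 := by rw [← pow_mul, mul_comm]
  rw [hpp] at h2
  set q := p ^ g with hqdef
  clear_value q
  have h3 : N = q ^ 12 * ((q - 1) * (q ^ 3 + 1) * (q ^ 4 - 1) * (q ^ 6 + 1)) := by
    have : dd .TF4 q * N = q ^ NN .TF4 * num .TF4 q := h1
    rw [show dd .TF4 q = 1 from rfl, one_mul] at this
    exact this
  have h4 : M = (q ^ 2) ^ 6 * (((q ^ 2) ^ 2 - 1) * ((q ^ 2) ^ 6 - 1)) := by
    have : dd .G2 (q ^ 2) * M = (q ^ 2) ^ NN .G2 * num .G2 (q ^ 2) := h2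
    rw [show dd .G2 (q ^ 2) = 1 from rfl, one_mul] at this
    exact this
  have h5 : M = N * (q ^ 2 + q + 1) := by
    rw [h4, h3]
    obtain ⟨x, rfl⟩ : ∃ x, q = x + 1 := ⟨q - 1, by omega⟩
    have e1 : (x + 1) ^ 4 - 1 = x * ((x + 1) ^ 3 + (x + 1) ^ 2 + (x + 1) + 1) := by
      have : (x + 1) ^ 4 = x * ((x + 1) ^ 3 + (x + 1) ^ 2 + (x + 1) + 1) + 1 := by ring
      omega
    have e2 : ((x + 1) ^ 2) ^ 2 - 1 = x * ((x + 1) ^ 3 + (x + 1) ^ 2 + (x + 1) + 1) := by
      have : ((x + 1) ^ 2) ^ 2 = x * ((x + 1) ^ 3 + (x + 1) ^ 2 + (x + 1) + 1) + 1 := by ring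
      omega
    have e3 : ((x + 1) ^ 2) ^ 6 - 1 = ((x + 1) ^ 6 + 1) * (((x + 1) ^ 3 + 1) * (x * ((x + 1) ^ 2 + (x + 1) + 1))) := by
      have : ((x + 1) ^ 2) ^ 6 = ((x + 1) ^ 6 + 1) * (((x + 1) ^ 3 + 1) * (x * ((x + 1) ^ 2 + (x + 1) + 1))) + 1 := by
        ring
      omega
    rw [e1, e2, e3, Nat.add_sub_cancel]
    ring
  rw [← heq] at h5
  exact Nat.eq_of_mul_eq_mul_left (Nat.pos_of_ne_zero hN) h5

/-- **Identification of an almost simple group.** -/
theorem same_out0 (hX : Real X p g N) (hY : Real Y p f M) (hE : IsExc Y) {c : ℕ}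
    (heq : N * c = M) (hI : OutC X p g c) : X = Y ∧ g = f := by
  have hp := hY.hp
  have hg := hX.hf
  rcases same_gen hX hY hE (k := 1) (by rw [mul_one]; exact heq) hI (fun h => hp.one_lt.ne' (Nat.dvd_one.1 h))
    (fun r hr _ h => hr.one_lt.ne' (Nat.dvd_one.1 h)) with h | ⟨rfl, rfl, rfl⟩
  · exact h
  · exfalso
    have h1 := tf4_g2 hX hY heq
    have hp2 : p = 2 := hX.ok.1
    obtain ⟨c', h3, -, h5⟩ := hI
    have h6 := h5 hp2
    have h7 : c' ≤ 6 := Nat.le_of_dvd (by norm_num) h6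
    have hc'0 : c' ≠ 0 := by
      rintro rfl
      rw [zero_dvd_iff] at h6
      have : 6 * dd .TF4 (p ^ g) = 6 := rfl
      omega
    have h8 : c ≤ 6 * g := (Nat.le_of_dvd (Nat.mul_pos (Nat.pos_of_ne_zero hc'0) hg) h3).trans
      (Nat.mul_le_mul_right _ h7)
    rw [h1, hp2] at h8
    have h9 : g < 2 ^ g := Nat.lt_two_pow_self
    by_cases hg5 : g ≤ 4
    · interval_cases g <;> norm_num at h8
    · have h10 : 6 ≤ 2 ^ g := by
        have : 2 ^ 5 ≤ 2 ^ g := Nat.pow_le_pow_right (by norm_num) (by omega)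
        omega
      nlinarith

end Cfsg.Agent.H962.SameOut
end
end
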